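import Cfsg.Agent.Lib.KnownB.ThompsonF42.Tits.Code

/-!
The checks of the tables, of the paths and of the identities between words.
-/

set_option autoImplicit false
set_option maxRecDepth 100000

namespace CfsgLib.ThompsonF42.Tits

open CfsgLib.Chev CfsgLib.Chev.Tits2 CfsgLib.Chev.F42.Two

/-- the words of the seven cells -/
def cellW : List (List ℕ) := [[], [0], [1], [1, 0], [1, 0, 1, 0], [1, 0, 1, 0, 1, 0], [1, 0, 1, 0, 1, 0, 1, 0]]

/-- a word over the factors, letters and tables -/
def h1T : List ℕ := fT ++ [g3]

/-- their words -/
def h1W : List (List ℕ) := fW ++ [[3]]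

/-- a list of paths reaches the listed points -/
def pathsOK (T : List ℕ) (b : ℕ) (ps qs : List ℕ → ℕ → Bool) : List (List ℕ) → List ℕ → Bool
  | [], [] => true
  | w :: l, q :: m => ps w q && qs w q && (w.all fun x => Nat.blt x T.length) &&
      Nat.beq (evalT (w.map fun x => T.getD x 0) b) q && pathsOK T b ps qs l m
  | _, _ => false

/-- no further condition -/
def noCond (_ : List ℕ) (_ : ℕ) : Bool := true

/-- a list increases -/
def incr : List ℕ → Bool
  | x :: y :: l => Nat.blt x y && incr (y :: l)
  | _ => true

theorem gen0_ok : genOK wP g0 = true := by decide +kernel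
theorem gen1_ok : genOK wPm g1 = true := by decide +kernel
theorem gen2_ok : genOK wA g2 = true := by decide +kernel
theorem gen3_ok : genOK wAm g3 = true := by decide +kernel
theorem inv_ok : (invOK g0 g4 && invOK g1 g5 && invOK g2 g6 && invOK g3 g7) = true := by decide +kernel

theorem fT_ok : all2 (fun w T => (w.all fun l => Nat.blt l 8) && compOK (tabsOf w) T) fW fT = true := by
  decide +kernel

theorem uT_ok : all2 (fun x T => compOK ((bif Nat.beq x.1 0 then [] else [fT.getD (x.1 - 1) 0]) ++
    bif Nat.beq x.2 0 then [] else [fT.getD (x.2 - 1) 0]) T) pairIx.flatten uT = true := by decide +kernel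

theorem vT_ok : all2 invOK uT vT = true := by decide +kernel

theorem nT_ok : all2 (fun w T => compOK (tabsOf (w.flatMap fun j => jW.getD j [])) T) cellW nT = true := by
  decide +kernel

theorem yC_ok : all2 (fun p T => compOK [gT.getD p.1 0, p.2, gT.getD ((p.1 + 4) % 8) 0] T)
    (yC.zip yT) yT.tail = true := by decide +kernel

theorem y0_ok : compOK (tabsOf [2, 2, 3, 3]) y0 = true := by decide +kernel

theorem jW_ok : (jW.all fun w => w.all fun l => Nat.blt l 8) = true := by decide +kernel

theorem pairIx_ok : (pairIx.all fun o => o.all fun x => Nat.ble x.1 16 && Nat.ble x.2 16) = true := by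
  decide +kernel

theorem word_ok : (all2 (fun w R => wEq (rootsOf w) R) fW fR && all2 (fun w R => wEq (rootsOf w) R) jW jR &&
    wEq (rootsOf [2, 2, 3, 3]) [28, 30, 19, 17]) = true := by decide +kernel

theorem vec_ok : (incr ((List.range nP).map vec) && (List.range nP).all fun i => Nat.blt (vec i) 4503599627370496) =
    true := by decide +kernel

theorem path1_ok : pathsOK gT (bases.getD 0 0) noCond noCond path1 (List.range nP) = true := by decide +kernel

theorem path2_ok : pathsOK h1T (bases.getD 1 0) noCond noCond path2 orb2 = true := by decide +kernel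

theorem path3_ok : pathsOK gT (bases.getD 2 0) (fun w _ => w.all fun x => Nat.beq x 2 || Nat.beq x 3) noCond
    path3 orb3 = true := by decide +kernel

theorem orb_ok : (incr orb2 && incr orb3 && Nat.beq orb2.length 1024 && Nat.beq orb3.length 20 &&
    (orb2.all fun q => Nat.blt q nP) && orb3.all fun q => Nat.blt q nP) = true := by decide +kernel

theorem fix_ok : ((h1T.all fun T => Nat.beq (get T (bases.getD 0 0)) (bases.getD 0 0)) &&
    ([g2, g3].all fun T => Nat.beq (get T (bases.getD 0 0)) (bases.getD 0 0) &&
      Nat.beq (get T (bases.getD 1 0)) (bases.getD 1 0))) = true := by decide +kernel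

end CfsgLib.ThompsonF42.Tits
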