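import Cfsg.Agent.Lib.Chev.Tits2.TransMain
import Cfsg.Agent.Lib.KnownB.ThompsonF42.Tits.ChkTab

/-!
Tables as the action of elements, and the base.
-/

set_option autoImplicit false
set_option maxRecDepth 100000
set_option maxHeartbeats 400000

namespace CfsgLib.ThompsonF42.Tits

open Cfsg.Lie Matrix CfsgLib.Chev CfsgLib.Chev.F42 CfsgLib.Chev.F42.Two CfsgLib.Chev.Tits2
open scoped commutatorElement

local notation "G₂" => GL chevF4.Idx K2

theorem cong_inv {y : G₂} {b : Bool} (hy : Cong y b) : Cong y⁻¹ b := by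
  refine ⟨inv_mem hy.1, ?_⟩
  have h := hy.2
  cases b with
  | false => simpa using inv_mem (by simpa using h : y ∈ C)
  | true =>
    simp only [if_true] at h ⊢
    have h1 := inv_mem h
    have h2 := conj_mem a_fix h1
    have h3 := mul_mem h2 a_sq_mem
    rwa [show a * (y * a)⁻¹ * a⁻¹ * (a * a) = y⁻¹ * a by group] at h3

/-- an element acts on the orbit by a function and has the given parity -/
def Act (g : G₂) (b : Bool) (f : ℕ → ℕ) : Prop :=
  Cong g b ∧ ∀ i < nP, f i < nP ∧ g.val *ᵥ sem (vec i) = sem (vec (f i))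

theorem Act.mem {g : G₂} {b : Bool} {f : ℕ → ℕ} (h : Act g b f) : g ∈ T.fix := h.1.1

theorem Act.one : Act 1 false id :=
  ⟨F42.Two.Cong.one, fun i hi => ⟨hi, by rw [Units.val_one, Matrix.one_mulVec]; rfl⟩⟩

theorem Act.mul {g h : G₂} {b c : Bool} {f f' : ℕ → ℕ} (hg : Act g b f) (hh : Act h c f') :
    Act (g * h) (xor b c) fun i => f (f' i) := by
  refine ⟨hg.1.mul hh.1, fun i hi => ?_⟩
  obtain ⟨h1, h2⟩ := hh.2 i hi
  obtain ⟨h3, h4⟩ := hg.2 _ h1
  exact ⟨h3, by rw [Units.val_mul, ← Matrix.mulVec_mulVec, h2, h4]⟩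

theorem Act.congr {g : G₂} {b : Bool} {f f' : ℕ → ℕ} (h : Act g b f) (e : ∀ i < nP, f' i = f i) :
    Act g b f' :=
  ⟨h.1, fun i hi => by rw [e i hi]; exact h.2 i hi⟩

theorem Act.inv {g : G₂} {b : Bool} {f f' : ℕ → ℕ} (h : Act g b f)
    (e : ∀ i < nP, f' i < nP ∧ f (f' i) = i) : Act g⁻¹ b f' := by
  refine ⟨cong_inv h.1, fun i hi => ⟨(e i hi).1, ?_⟩⟩
  have h1 := (h.2 _ (e i hi).1).2
  rw [(e i hi).2] at h1
  rw [← h1, Matrix.mulVec_mulVec, ← Units.val_mul, inv_mul_cancel, Units.val_one, Matrix.one_mulVec]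

theorem of_genOK {L : List ℕ} {T : ℕ} {b : Bool} (hb : Cong (prodX L) b) (h : genOK L T = true) :
    Act (prodX L) b (get T) := by
  simp only [genOK, Bool.and_eq_true, List.all_eq_true, List.mem_range, Nat.blt_eq] at h
  refine ⟨hb, fun i hi => ⟨(h.2 i hi).1, ?_⟩⟩
  rw [← sem_appAW h.1, Nat.eq_of_beq_eq_true (h.2 i hi).2]

theorem invOK_spec {S S' : ℕ} (h : invOK S S' = true) :
    ∀ i < nP, get S' i < nP ∧ get S (get S' i) = i := fun i hi => by
  simp only [invOK, Bool.and_eq_true, List.all_eq_true, List.mem_range, Nat.blt_eq] at h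
  exact ⟨(h i hi).1, Nat.eq_of_beq_eq_true (h i hi).2⟩

theorem compOK_spec {l : List ℕ} {S : ℕ} (h : compOK l S = true) : ∀ i < nP, get S i = evalT l i :=
  fun i hi => by
    simp only [compOK, List.all_eq_true, List.mem_range] at h
    exact Nat.eq_of_beq_eq_true (h i hi)

theorem all2_mem {α β : Type*} {f : α → β → Bool} : ∀ {l : List α} {m : List β}, all2 f l m = true →
    ∀ a ∈ l, ∃ b ∈ m, f a b = true
  | [], _, _ => fun a ha => absurd ha List.not_mem_nil
  | _ :: _, [], h => by simp [all2] at h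
  | a :: l, b :: m, h => fun x hx => by
    simp only [all2, Bool.and_eq_true] at h
    rcases List.mem_cons.1 hx with rfl | hx
    · exact ⟨b, List.mem_cons_self, h.1⟩
    · obtain ⟨y, hy, e⟩ := all2_mem h.2 x hx
      exact ⟨y, List.mem_cons_of_mem _ hy, e⟩

theorem all2_get {α β : Type*} (dα : α) (dβ : β) {f : α → β → Bool} : ∀ {l : List α} {m : List β},
    all2 f l m = true → ∀ i < l.length, f (l.getD i dα) (m.getD i dβ) = true
  | [], _, _ => fun i hi => absurd hi (by simp)
  | _ :: _, [], h => by simp [all2] at h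
  | a :: l, b :: m, h => fun i hi => by
    simp only [all2, Bool.and_eq_true] at h
    cases i with
    | zero => simpa using h.1
    | succ i => simpa using all2_get dα dβ h.2 i (by simpa using hi)

/-- the element of a word of letters -/
noncomputable def elw (w : List ℕ) : G₂ := prodX (rootsOf w)

theorem elw_append (u w : List ℕ) : elw (u ++ w) = elw u * elw w := by
  simp [elw, rootsOf, List.flatMap_append, prodX_append]

theorem elw_nil : elw [] = 1 := rfl

theorem elw_single (l : ℕ) : elw [l] = prodX (gW.getD l []) := by simp [elw, rootsOf]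

theorem act_letter {l : ℕ} (hl : l < 8) : Act (elw [l]) (gPar.getD l false) (get (gT.getD l 0)) := by
  have h := inv_ok
  simp only [Bool.and_eq_true] at h
  obtain ⟨⟨⟨i0, i1⟩, i2⟩, i3⟩ := h
  have a0 := of_genOK cong_wP gen0_ok
  have a1 := of_genOK cong_wPm gen1_ok
  have a2 := of_genOK cong_wA gen2_ok
  have cm : Cong (prodX wAm) true := wAm_eq ▸ cong_wA.conj (T.nJ_fix (by decide))
  have a3 := of_genOK cm gen3_ok
  have b0 := a0.inv (invOK_spec i0)
  have b1 := a1.inv (invOK_spec i1)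
  have b2 := a2.inv (invOK_spec i2)
  have b3 := a3.inv (invOK_spec i3)
  rw [prodX_reverse] at b0 b1 b2 b3
  rw [elw_single]
  interval_cases l
  exacts [a0, a1, a2, a3, b0, b1, b2, b3]

theorem act_word : ∀ {w : List ℕ}, (∀ l ∈ w, l < 8) → Act (elw w) (parW w) (evalT (tabsOf w))
  | [], _ => Act.one
  | l :: w, h => by
    have h1 := (act_letter (h l List.mem_cons_self)).mul (act_word fun x hx => h x (List.mem_cons_of_mem _ hx))
    rw [← elw_append, List.singleton_append] at h1
    exact h1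

theorem act_word_tab {w : List ℕ} (h : ∀ l ∈ w, l < 8) {S : ℕ} (e : compOK (tabsOf w) S = true) :
    Act (elw w) (parW w) (get S) :=
  (act_word h).congr (compOK_spec e)

theorem act_evalT_cons {g h : G₂} {b c : Bool} {S : ℕ} {l : List ℕ} (hg : Act g b (get S))
    (hh : Act h c (evalT l)) : Act (g * h) (xor b c) (evalT (S :: l)) := hg.mul hh

/-- the inverse word -/
def winv (w : List ℕ) : List ℕ := (w.map fun l => (l + 4) % 8).reverse

theorem winv_lt (w : List ℕ) : ∀ l ∈ winv w, l < 8 := fun l hl => by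
  simp only [winv, List.mem_reverse, List.mem_map] at hl
  obtain ⟨x, -, rfl⟩ := hl
  omega

theorem elw_inv_single {l : ℕ} (hl : l < 8) : elw [(l + 4) % 8] = (elw [l])⁻¹ := by
  rw [elw_single, elw_single, prodX_reverse]
  congr 1
  interval_cases l <;> rfl

theorem elw_winv : ∀ {w : List ℕ}, (∀ l ∈ w, l < 8) → elw (winv w) = (elw w)⁻¹
  | [], _ => by simp [winv, elw_nil]
  | l :: w, h => by
    rw [show winv (l :: w) = winv w ++ [(l + 4) % 8] by simp [winv], elw_append,
      elw_winv fun x hx => h x (List.mem_cons_of_mem _ hx), elw_inv_single (h l List.mem_cons_self),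
      show l :: w = [l] ++ w from rfl, elw_append, _root_.mul_inv_rev]

theorem incr_pairwise : ∀ {l : List ℕ}, incr l = true → l.Pairwise (· < ·)
  | [], _ => List.Pairwise.nil
  | [_], _ => List.pairwise_singleton _ _
  | x :: y :: l, h => by
    simp only [incr, Bool.and_eq_true, Nat.blt_eq] at h
    have h2 := incr_pairwise h.2
    refine List.pairwise_cons.2 ⟨fun z hz => ?_, h2⟩
    rcases List.mem_cons.1 hz with rfl | hz
    · exact h.1
    · exact h.1.trans ((List.pairwise_cons.1 h2).1 z hz)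

theorem sem_inj {x y : ℕ} (hx : x < 2 ^ 52) (hy : y < 2 ^ 52) (h : sem x = sem y) : x = y := by
  apply Nat.eq_of_testBit_eq
  intro c
  by_cases hc : c < 52
  · obtain ⟨i, hi⟩ := exists_idx (D := chevF4) (c := c) (show c < 52 from hc)
    have := congrFun h i
    simp only [sem, hi] at this
    revert this
    cases x.testBit c <;> cases y.testBit c <;> simp
  · rw [Nat.testBit_lt_two_pow (lt_of_lt_of_le hx (Nat.pow_le_pow_right two_pos (not_lt.1 hc))),
      Nat.testBit_lt_two_pow (lt_of_lt_of_le hy (Nat.pow_le_pow_right two_pos (not_lt.1 hc)))]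

theorem vec_inj {i j : ℕ} (hi : i < nP) (hj : j < nP) (h : sem (vec i) = sem (vec j)) : i = j := by
  have hv := vec_ok
  simp only [Bool.and_eq_true, List.all_eq_true, List.mem_range, Nat.blt_eq] at hv
  have e := sem_inj (lt_of_lt_of_eq (hv.2 i hi) (by norm_num)) (lt_of_lt_of_eq (hv.2 j hj) (by norm_num)) h
  exact List.inj_on_of_nodup_map (List.Pairwise.imp Nat.ne_of_lt (incr_pairwise hv.1))
    (List.mem_range.2 hi) (List.mem_range.2 hj) e

/-- the stabiliser of a vector -/
def St (v : chevF4.Idx → K2) : Subgroup G₂ where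
  carrier := {g | g.val *ᵥ v = v}
  one_mem' := by simp
  mul_mem' := fun {g h} (hg : g.val *ᵥ v = v) (hh : h.val *ᵥ v = v) => by
    show (g * h).val *ᵥ v = v
    rw [Units.val_mul, ← Matrix.mulVec_mulVec, hh, hg]
  inv_mem' := fun {g} (hg : g.val *ᵥ v = v) => by
    show (g⁻¹).val *ᵥ v = v
    conv_lhs => rw [← hg]
    rw [Matrix.mulVec_mulVec, ← Units.val_mul, inv_mul_cancel, Units.val_one, Matrix.one_mulVec]

theorem orbit_count {G V : Type*} [Group G] [Finite G] (H S : Subgroup G) (φ : G → V)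
    (hφ : ∀ h : G, ∀ s ∈ S, φ (h * s) = φ h) {n : ℕ} (f : Fin n → V) (hf : Function.Injective f)
    (hreach : ∀ k, ∃ h ∈ H, φ h = f k) : n * Nat.card ↥(H ⊓ S) ≤ Nat.card ↥H := by
  choose h hh hv using hreach
  let F : Fin n × ↥(H ⊓ S) → ↥H := fun p => ⟨h p.1 * p.2.1, mul_mem (hh _) p.2.2.1⟩
  have hF : Function.Injective F := by
    rintro ⟨k, s⟩ ⟨k', s'⟩ e
    have e1 : h k * s.1 = h k' * s'.1 := congrArg Subtype.val e
    have e2 := congrArg φ e1
    rw [hφ _ _ s.2.2, hφ _ _ s'.2.2, hv, hv] at e2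
    obtain rfl := hf e2
    exact Prod.ext rfl (Subtype.ext (mul_left_cancel e1))
  have := Nat.card_le_card_of_injective F hF
  rwa [Nat.card_prod, Nat.card_fin] at this

theorem orbit_bound (H : Subgroup G₂) (v : chevF4.Idx → K2) {n : ℕ} (f : Fin n → chevF4.Idx → K2)
    (hf : Function.Injective f) (hreach : ∀ k, ∃ h ∈ H, h.val *ᵥ v = f k) :
    n * Nat.card ↥(H ⊓ St v) ≤ Nat.card ↥H := by
  haveI : Finite G₂ := finite_GL
  refine orbit_count H (St v) (fun g : G₂ => g.val *ᵥ v) ?_ f hf hreach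
  intro h s hs
  show (h * s).val *ᵥ v = h.val *ᵥ v
  rw [Units.val_mul, ← Matrix.mulVec_mulVec, show s.val *ᵥ v = v from hs]

theorem pathsOK_spec {S : List ℕ} {b : ℕ} {p q : List ℕ → ℕ → Bool} : ∀ {l : List (List ℕ)} {m : List ℕ},
    pathsOK S b p q l m = true → ∀ x ∈ m, ∃ w : List ℕ, p w x = true ∧ (∀ y ∈ w, y < S.length) ∧
      evalT (w.map fun y => S.getD y 0) b = x
  | [], [], _ => fun x hx => absurd hx List.not_mem_nil
  | [], _ :: _, h => by simp [pathsOK] at h
  | _ :: _, [], h => by simp [pathsOK] at h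
  | w :: l, x :: m, h => fun y hy => by
    simp only [pathsOK, Bool.and_eq_true, List.all_eq_true, Nat.blt_eq] at h
    rcases List.mem_cons.1 hy with rfl | hy
    · exact ⟨w, h.1.1.1.1, h.1.1.2, Nat.eq_of_beq_eq_true h.1.2⟩
    · exact pathsOK_spec h.2 y hy

/-- the three base vectors -/
noncomputable def bv (k : ℕ) : chevF4.Idx → K2 := sem (vec (bases.getD k 0))

theorem bases_lt : ∀ k, bases.getD k 0 < nP := by
  intro k
  rcases k with _ | _ | _ | k <;> simp [bases, nP]

theorem act_fW {i : ℕ} (hi : i < 16) :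
    (∀ l ∈ fW.getD i [], l < 8) ∧ Act (elw (fW.getD i [])) (parW (fW.getD i [])) (get (fT.getD i 0)) := by
  have h := all2_get [] 0 fT_ok i hi
  simp only [Bool.and_eq_true, List.all_eq_true, Nat.blt_eq] at h
  exact ⟨h.1, act_word_tab h.1 h.2⟩

theorem act_h1 {i : ℕ} (hi : i < h1T.length) :
    (∃ g b, Act g b (get (h1T.getD i 0))) ∧ get (h1T.getD i 0) (bases.getD 0 0) = bases.getD 0 0 := by
  constructor
  · have hi' : i < 17 := hi
    by_cases h12 : i < 16
    · refine ⟨elw (fW.getD i []), parW (fW.getD i []), ?_⟩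
      rw [show h1T.getD i 0 = fT.getD i 0 from List.getD_append _ _ _ _ h12]
      exact (act_fW h12).2
    · obtain rfl : i = 16 := by omega
      exact ⟨_, _, act_letter (show 3 < 8 by norm_num)⟩
  · have h := fix_ok
    simp only [Bool.and_eq_true, List.all_eq_true] at h
    rw [List.getD_eq_getElem _ _ hi]
    exact Nat.eq_of_beq_eq_true (h.1 _ (List.getElem_mem _))

/-- the pointwise stabiliser of the base is trivial -/
theorem base_trivial {g : G₂} (hg : g ∈ T.fix) (h : ∀ k < 3, g.val *ᵥ bv k = bv k) : g = 1 := by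
  haveI : Finite G₂ := finite_GL
  set H1 := T.fix ⊓ St (bv 0)
  set H2 := H1 ⊓ St (bv 1)
  set H3 := H2 ⊓ St (bv 2)
  have inj : ∀ {n : ℕ} (qs : List ℕ) (hn : qs.length = n) (hq : ∀ q ∈ qs, q < nP) (hs : qs.Pairwise (· < ·)),
      Function.Injective fun k : Fin n => sem (vec (qs[k.val]'(hn.symm ▸ k.isLt))) := by
    intro n qs hn hq hs i j e
    have := vec_inj (hq _ (List.getElem_mem _)) (hq _ (List.getElem_mem _)) e
    exact Fin.ext ((List.Nodup.getElem_inj_iff (List.Pairwise.imp Nat.ne_of_lt hs)).1 this)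
  have ho := orb_ok
  simp only [Bool.and_eq_true, List.all_eq_true, Nat.blt_eq] at ho
  obtain ⟨⟨⟨⟨⟨s2, s3⟩, l2⟩, l3⟩, q2⟩, q3⟩ := ho
  have c1 : 1755 * Nat.card ↥H1 ≤ Nat.card ↥T.fix := by
    refine orbit_bound _ _ _ (inj (List.range nP) List.length_range (fun q hq => List.mem_range.1 hq)
      (List.pairwise_lt_range)) fun k => ?_
    obtain ⟨w, -, hw, e⟩ := pathsOK_spec path1_ok _ (List.getElem_mem (l := List.range nP) (n := k.val) (by rw [List.length_range]; exact k.isLt))
    have hw8 : ∀ l ∈ w, l < 8 := hw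
    have A := act_word hw8
    refine ⟨elw w, A.mem, ?_⟩
    rw [bv, ((A.2 _ (bases_lt 0))).2]
    exact congrArg (fun x => sem (vec x)) e
  have c2 : 1024 * Nat.card ↥H2 ≤ Nat.card ↥H1 := by
    refine orbit_bound _ _ _ (inj orb2 (Nat.eq_of_beq_eq_true l2) q2 (incr_pairwise s2)) fun k => ?_
    obtain ⟨w, -, hw, e⟩ := pathsOK_spec path2_ok _ (List.getElem_mem (l := orb2) (by
      rw [Nat.eq_of_beq_eq_true l2]; exact k.isLt))
    have hex : ∀ w : List ℕ, (∀ y ∈ w, y < h1T.length) → ∃ g b,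
        Act g b (evalT (w.map fun y => h1T.getD y 0)) ∧
          evalT (w.map fun y => h1T.getD y 0) (bases.getD 0 0) = bases.getD 0 0 := by
      intro w hw
      induction w with
      | nil => exact ⟨1, false, Act.one, rfl⟩
      | cons y w ih =>
        obtain ⟨g, b, hgb, e0⟩ := ih fun z hz => hw z (List.mem_cons_of_mem _ hz)
        obtain ⟨⟨g', b', hg'⟩, e1⟩ := act_h1 (hw y List.mem_cons_self)
        refine ⟨g' * g, _, act_evalT_cons hg' hgb, ?_⟩
        show get _ (evalT _ _) = _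
        rw [e0, e1]
    obtain ⟨g, b, A, e0⟩ := hex w hw
    refine ⟨g, ⟨A.mem, ?_⟩, ?_⟩
    · show g.val *ᵥ bv 0 = bv 0
      rw [bv, ((A.2 _ (bases_lt 0))).2, e0]
    · rw [bv, ((A.2 _ (bases_lt 1))).2, e]
  have c3 : 20 * Nat.card ↥H3 ≤ Nat.card ↥H2 := by
    refine orbit_bound _ _ _ (inj orb3 (Nat.eq_of_beq_eq_true l3) q3 (incr_pairwise s3)) fun k => ?_
    obtain ⟨w, hp, hw, e⟩ := pathsOK_spec path3_ok _ (List.getElem_mem (l := orb3) (by
      rw [Nat.eq_of_beq_eq_true l3]; exact k.isLt))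
    have hw8 : ∀ l ∈ w, l < 8 := hw
    have A := act_word hw8
    have hf := fix_ok
    simp only [Bool.and_eq_true, List.all_eq_true] at hf
    have hfix : ∀ w : List ℕ, (∀ x ∈ w, x = 2 ∨ x = 3) → evalT (tabsOf w) (bases.getD 0 0) = bases.getD 0 0 ∧
        evalT (tabsOf w) (bases.getD 1 0) = bases.getD 1 0 := by
      intro w hw
      induction w with
      | nil => exact ⟨rfl, rfl⟩
      | cons y w ih =>
        obtain ⟨e0, e1⟩ := ih fun z hz => hw z (List.mem_cons_of_mem _ hz)
        have hm : gT.getD y 0 ∈ [g2, g3] := by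
          rcases hw y List.mem_cons_self with rfl | rfl <;> simp [gT]
        obtain ⟨f0, f1⟩ := hf.2 _ hm
        constructor
        · show get (gT.getD y 0) (evalT (tabsOf w) _) = _
          rw [e0]; exact Nat.eq_of_beq_eq_true f0
        · show get (gT.getD y 0) (evalT (tabsOf w) _) = _
          rw [e1]; exact Nat.eq_of_beq_eq_true f1
    obtain ⟨e0, e1⟩ := hfix w (by simpa [List.all_eq_true] using hp)
    refine ⟨elw w, ⟨⟨A.mem, ?_⟩, ?_⟩, ?_⟩
    · show (elw w).val *ᵥ bv 0 = bv 0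
      rw [bv, ((A.2 _ (bases_lt 0))).2, e0]
    · show (elw w).val *ᵥ bv 1 = bv 1
      rw [bv, ((A.2 _ (bases_lt 1))).2, e1]
    · rw [bv, ((A.2 _ (bases_lt 2))).2]
      exact congrArg (fun x => sem (vec x)) e
  rw [Tits2.card_fix] at c1
  have hle : Nat.card ↥H3 ≤ 1 := by omega
  have hg3 : g ∈ H3 := ⟨⟨⟨hg, h 0 (by norm_num)⟩, h 1 (by norm_num)⟩, h 2 (by norm_num)⟩
  have hbot := (Subgroup.card_le_one_iff_eq_bot H3).1 hle
  rwa [hbot, Subgroup.mem_bot] at hg3

theorem eq_of_bases {g h : G₂} {b c : Bool} {f f' : ℕ → ℕ} (hg : Act g b f) (hh : Act h c f')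
    (e : ∀ x ∈ bases, f x = f' x) : g = h := by
  refine (inv_mul_eq_one.1 (base_trivial (g := g⁻¹ * h) (mul_mem (inv_mem hg.mem) hh.mem) fun k hk => ?_))
  have hm : bases.getD k 0 ∈ bases := by
    rw [List.getD_eq_getElem _ _ (show k < bases.length from hk)]; exact List.getElem_mem _
  rw [bv, Units.val_mul, ← Matrix.mulVec_mulVec, (hh.2 _ (bases_lt k)).2, ← e _ hm, ← (hg.2 _ (bases_lt k)).2,
    Matrix.mulVec_mulVec, ← Units.val_mul, inv_mul_cancel, Units.val_one, Matrix.one_mulVec]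

theorem eq_one_iff {g : G₂} {b : Bool} {f : ℕ → ℕ} (hg : Act g b f) :
    g = 1 ↔ ∀ x ∈ bases, f x = x := by
  refine ⟨?_, fun e => eq_of_bases hg Act.one e⟩
  rintro rfl x hx
  obtain ⟨h1, h2⟩ := hg.2 x (by simp only [bases, List.mem_cons, List.not_mem_nil, or_false] at hx; unfold nP; omega)
  rw [Units.val_one, Matrix.one_mulVec] at h2
  exact (vec_inj (by simp only [bases, List.mem_cons, List.not_mem_nil, or_false] at hx; unfold nP; omega) h1 h2).symm

end CfsgLib.ThompsonF42.Tits
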