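import Cfsg.Agent.Lib.KnownB.ThompsonF42.Tits.Code
import Cfsg.Agent.Lib.KnownB.ThompsonF42.Tits.Wit0

/-! The check of the witnesses for the cell number 0. -/

set_option autoImplicit false
set_option maxRecDepth 100000

namespace CfsgLib.ThompsonF42.Tits

theorem cell0_ok : cellOK n0 wit0 = true := by decide +kernel

end CfsgLib.ThompsonF42.Tits
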