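import Cfsg.Agent.Lib.KnownB.ThompsonF42.Tits.ChkTab

/-!
The bookkeeping between the selections, the factors and the pairs.
-/

set_option autoImplicit false
set_option maxRecDepth 100000

namespace CfsgLib.ThompsonF42.Tits

open CfsgLib.Chev CfsgLib.Chev.F42.Two

/-- the factors at each of the eight places -/
def fOpt : List (List ℕ) :=
  [[0, 1, 2, 3], [0, 4], [0, 5, 6, 7], [0, 8], [0, 9, 10, 11], [0, 12], [0, 13, 14, 15], [0, 16]]

/-- the roots of a factor -/
def fRootsB (x : ℕ) : List ℕ := bif Nat.beq x 0 then [] else fR.getD (x - 1) []

theorem facs_ok : all2 (fun o xs => all2 (fun p x => p.1 == fRootsB x) o xs) (facs seq []) fOpt = true := by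
  decide +kernel

theorem pair_ok : ((List.range 4).all fun k => (fOpt.getD (2 * k) []).all fun x => (fOpt.getD (2 * k + 1) []).all fun y =>
    (List.range 8).any fun i => pairIx.flatten.getD (8 * k + i) (0, 0) == (x, y)) = true := by decide +kernel

theorem place_ok : ((List.range 4).all fun k => (place k).length == 8 && (List.range 8).all fun i =>
    (place k).getD i (false, 0) == (xor (fPar (pairIx.flatten.getD (8 * k + i) (0, 0)).1)
      (fPar (pairIx.flatten.getD (8 * k + i) (0, 0)).2), uT.getD (8 * k + i) 0)) = true := by decide +kernel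

theorem fOpt_ok : (fOpt.length == 8 && fOpt.all fun o => o.all fun x => Nat.ble x 16) = true := by decide +kernel

theorem cell_par : (cellW.all fun w => !parW (w.flatMap fun j => jW.getD j [])) = true := by decide +kernel

end CfsgLib.ThompsonF42.Tits
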