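import Cfsg.Agent.Lib.KnownB.ThompsonF42.Tits.Code

/-!
The checks for the Sylow subgroup of order 25.
-/

set_option autoImplicit false
set_option maxRecDepth 100000

namespace CfsgLib.ThompsonF42.Tits

/-- the element of order five -/
def xW : List ℕ := [2, 2, 3, 3]

/-- its conjugate -/
def x2W : List ℕ := hW ++ xW ++ (hW.map fun l => (l + 4) % 8).reverse

/-- an element of the Sylow subgroup -/
def pW (i j : ℕ) : List ℕ := (List.replicate i xW).flatten ++ (List.replicate j x2W).flatten

/-- two words agree on the base -/
def eqB (u v : List ℕ) : Bool :=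
  (u.all fun l => Nat.blt l 8) && (v.all fun l => Nat.blt l 8) &&
    bases.all fun b => Nat.beq (evalT (tabsOf u) b) (evalT (tabsOf v) b)

/-- the twenty five pairs -/
def ij : List (ℕ × ℕ) := (List.range 5).flatMap fun i => (List.range 5).map fun j => (i, j)

theorem syl_ok : (eqB (List.replicate 5 xW).flatten [] && !(eqB xW []) && eqB (List.replicate 5 x2W).flatten [] &&
    eqB (xW ++ x2W) (x2W ++ xW) && eqB (cW ++ xW) (xW ++ cW) && parW cW) = true := by decide +kernel

theorem syl_distinct : (ij.map fun p => bases.map fun b => evalT (tabsOf (pW p.1 p.2)) b).Nodup := by decide +kernel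

theorem syl_conj : all2 (fun p h => eqB p.2 [] || eqB (h ++ xW) (p.2 ++ h))
    (ij.map fun p => (p, pW p.1 p.2)) sylW = true := by decide +kernel

end CfsgLib.ThompsonF42.Tits
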