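import Mathlib

/-! Paths to the points of the suborbits and the certificate for the Sylow subgroup. -/

set_option autoImplicit false
set_option maxRecDepth 100000

namespace CfsgLib.ThompsonF42.Tits

/-- paths to all points from the first base point -/
def path1 : List (List Nat) := [[0, 2, 3, 1, 3, 0, 2, 2, 1, 0, 2, 3, 1, 3, 0, 1],
  [2, 3, 3, 0, 2, 2, 1, 0, 2, 3, 1, 3, 0, 1],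
  [2, 3, 1, 3, 0, 2, 2, 1, 0, 2, 3, 1, 3, 0, 1],
  [0, 2, 2, 1, 0, 2, 3, 1, 3, 0, 1],
  [3, 1, 0, 2, 3, 1, 3, 0, 2, 1, 3, 3, 0, 1],
  [3, 3, 0, 2, 2, 1, 0, 2, 3, 1, 3, 0, 1],
  [3, 1, 3, 0, 2, 2, 1, 0, 2, 3, 1, 3, 0, 1],
  [0, 2, 3, 1, 3, 0, 2, 1, 3, 3, 0, 1],
  [1, 0, 2, 3, 1, 3, 0, 2, 1, 3, 3, 0, 1],
  [3, 0, 2, 2, 1, 0, 2, 3, 1, 3, 0, 1],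
  [1, 3, 0, 2, 2, 1, 0, 2, 3, 1, 3, 0, 1],
  [2, 2, 0, 2, 3, 1, 3, 0, 1],
  [2, 3, 3, 0, 2, 2, 1, 0, 2, 3, 1, 3, 1],
  [2, 2, 0, 1, 3, 3, 2, 1, 3, 1, 3, 0, 1],
  [1, 3, 3, 2, 2, 1, 0, 2, 3, 1, 3, 0, 1],
  [2, 0, 2, 1, 3, 0, 1, 3, 3, 1, 3, 1],
  [2, 1, 3, 1, 3, 0, 2, 1, 3, 3, 0, 1],
  [2, 2, 0, 1, 3, 2, 1, 3, 1, 3, 0, 1],
  [1, 3, 2, 2, 1, 0, 2, 3, 1, 3, 0, 1],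
  [2, 2, 1, 0, 2, 3, 1, 3, 0, 1],
  [2, 3, 0, 1, 3, 1, 3, 2, 1, 3, 3, 0, 1],
  [2, 3, 3, 1, 3, 1, 0, 2, 3, 1, 3, 0, 1],
  [3, 3, 2, 2, 1, 0, 2, 3, 1, 3, 0, 1],
  [2, 3, 3, 1, 0, 2, 3, 0, 1, 3, 1, 3, 1],
  [2, 3, 1, 3, 0, 2, 1, 3, 3, 0, 1],
  [2, 2, 0, 1, 3, 0, 2, 1, 3, 1, 3, 0, 1],
  [3, 2, 2, 1, 0, 2, 3, 1, 3, 0, 1],
  [0, 2, 1, 3, 3, 0, 1],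
  [3, 1, 3, 2, 1, 0, 2, 3, 1, 3, 0, 1],
  [0, 2, 2, 1, 0, 2, 3, 1, 3, 1],
  [3, 0, 1, 3, 3, 2, 1, 3, 1, 3, 0, 1],
  [3, 0, 2, 1, 3, 1, 3, 3, 2, 1, 3, 0, 1],
  [2, 3, 0, 1, 3, 2, 1, 3, 1, 3, 0, 1],
  [3, 2, 1, 3, 3, 1, 0, 2, 3, 1, 3, 0, 1],
  [3, 0, 1, 3, 2, 1, 3, 1, 3, 0, 1],
  [2, 2, 0, 2, 3, 0, 1, 3, 1, 3, 1],
  [1, 0, 2, 3, 0, 1, 3, 1, 3, 1],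
  [2, 2, 1, 0, 2, 3, 0, 1, 3, 1, 3, 1],
  [0, 2, 3, 0, 1, 3, 1, 3, 1],
  [2, 1, 0, 2, 3, 0, 1, 3, 1, 3, 1],
  [1, 3, 1, 0, 2, 3, 1, 3, 0, 1],
  [2, 0, 2, 3, 0, 1, 3, 1, 3, 1],
  [3, 1, 0, 2, 3, 1, 3, 0, 1],
  [2, 0, 2, 3, 1, 3, 0, 1],
  [2, 1, 3, 2, 1, 0, 2, 3, 1, 3, 0, 1],
  [3, 3, 0, 2, 2, 1, 0, 2, 3, 1, 3, 1],
  [2, 0, 1, 3, 3, 2, 1, 3, 1, 3, 0, 1],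
  [0, 2, 1, 3, 0, 1, 3, 3, 1, 3, 1],
  [1, 0, 2, 3, 3, 1, 3, 2, 1, 3, 0, 1],
  [1, 3, 1, 3, 0, 2, 1, 3, 3, 0, 1],
  [2, 0, 1, 3, 2, 1, 3, 1, 3, 0, 1],
  [0, 2, 3, 3, 1, 3, 2, 1, 3, 0, 1],
  [3, 3, 1, 0, 2, 3, 0, 1, 3, 1, 3, 1],
  [2, 0, 1, 3, 0, 2, 1, 3, 1, 3, 0, 1],
  [3, 1, 3, 0, 2, 1, 3, 3, 0, 1],
  [3, 0, 1, 3, 1, 3, 2, 1, 3, 3, 0, 1],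
  [3, 3, 1, 3, 1, 0, 2, 3, 1, 3, 0, 1],
  [2, 1, 0, 2, 3, 1, 3, 0, 1],
  [2, 3, 2, 1, 0, 2, 3, 1, 3, 0, 1],
  [0, 2, 3, 1, 3, 0, 1],
  [1, 3, 2, 1, 0, 2, 3, 1, 3, 0, 1],
  [0, 1, 3, 3, 2, 1, 3, 1, 3, 0, 1],
  [0, 2, 3, 1, 3, 0, 2, 1, 3, 3, 1],
  [0, 2, 1, 3, 1, 3, 3, 2, 1, 3, 0, 1],
  [1, 3, 3, 1, 3, 0, 2, 1, 3, 3, 0, 1],
  [0, 1, 3, 2, 1, 3, 1, 3, 0, 1],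
  [2, 1, 3, 3, 1, 0, 2, 3, 1, 3, 0, 1],
  [2, 3, 3, 1, 0, 2, 3, 1, 3, 0, 1],
  [0, 1, 3, 0, 2, 1, 3, 1, 3, 0, 1],
  [3, 3, 1, 3, 0, 2, 1, 3, 3, 0, 1],
  [2, 3, 1, 3, 1, 0, 2, 3, 1, 3, 0, 1],
  [0, 1, 3, 3, 0, 2, 1, 3, 1, 3, 0, 1],
  [2, 3, 1, 0, 2, 3, 0, 1, 3, 1, 3, 1],
  [1, 0, 2, 3, 1, 3, 0, 1],
  [3, 2, 1, 0, 2, 3, 1, 3, 0, 1],
  [3, 0, 2, 1, 3, 3, 0, 1],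
  [0, 1, 3, 3, 1, 3, 2, 1, 3, 3, 0, 1],
  [3, 3, 0, 1, 3, 3, 2, 1, 3, 1, 3, 0, 1],
  [3, 0, 2, 2, 1, 0, 2, 3, 1, 3, 1],
  [0, 2, 1, 3, 0, 1, 3, 0, 1, 3, 1],
  [0, 1, 3, 0, 1, 3, 2, 1, 3, 3, 0, 1],
  [3, 3, 0, 1, 3, 2, 1, 3, 1, 3, 0, 1],
  [1, 3, 3, 1, 0, 2, 3, 1, 3, 0, 1],
  [3, 2, 2, 0, 2, 3, 0, 1, 3, 1, 3, 1],
  [3, 1, 0, 2, 3, 0, 1, 3, 1, 3, 1],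
  [1, 3, 0, 2, 1, 3, 3, 0, 1],
  [0, 1, 3, 3, 0, 1, 3, 2, 1, 3, 3, 0, 1],
  [0, 1, 3, 1, 3, 2, 1, 3, 3, 0, 1],
  [3, 1, 3, 1, 0, 2, 3, 1, 3, 0, 1],
  [3, 3, 1, 0, 2, 3, 1, 3, 0, 1],
  [0, 2, 3, 0, 1, 3, 3, 0, 1, 3, 1],
  [2, 3, 3, 0, 1],
  [2, 2, 0, 2, 3, 1, 3, 0, 1, 3, 3, 1],
  [2, 0, 1, 3, 3, 1, 3, 3, 1],
  [2, 1, 3, 0, 2, 1, 3, 2, 1, 3, 1],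
  [2, 2, 0, 2, 3, 1, 3, 1],
  [1, 3, 1, 3, 3, 2, 1, 3, 1, 3, 0, 1],
  [1, 3, 1, 3, 1, 3, 2, 1, 3, 3, 0, 1],
  [3, 3, 2, 0, 1, 3, 3, 1, 3, 3, 1],
  [3, 0, 2, 1, 3, 0, 1, 3, 1, 3, 1],
  [2, 1, 3, 0, 1, 3, 1, 3, 1],
  [0, 2, 1, 3, 3, 1, 3, 2, 1, 3, 0, 1],
  [2, 3, 0, 1, 3, 3, 1, 3, 1],
  [3, 2, 1, 3, 0, 1, 3, 1, 3, 1],
  [0, 2, 1, 3, 0, 1, 3, 1, 3, 1],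
  [3, 2, 0, 1, 3, 3, 1, 3, 3, 1],
  [2, 0, 1, 3, 2, 1, 3, 3, 1, 3, 1],
  [2, 2, 0, 2, 3, 1, 3, 0, 2, 1, 3, 1],
  [2, 2, 0, 2, 3, 1, 3, 0, 1, 3, 1],
  [0, 2, 3, 0, 1, 3, 3, 1, 3, 1],
  [2, 1, 3, 3, 1, 3, 2, 1, 3, 0, 1],
  [2, 2, 0, 2, 3, 1, 3, 0, 2, 1, 3, 0, 1],
  [1, 3, 1, 3, 2, 1, 3, 1, 3, 0, 1],
  [1, 3, 2, 0, 1, 3, 1, 3, 3, 1],
  [3, 1, 3, 3, 2, 1, 3, 3, 0, 1],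
  [3, 2, 0, 1, 3, 1, 3, 0, 1, 3, 0, 1],
  [1, 3, 1, 0, 2, 1, 3, 1, 3, 0, 1],
  [3, 1, 3, 2, 0, 1, 3, 1, 3, 3, 1],
  [3, 3, 1, 3, 3, 2, 1, 3, 3, 0, 1],
  [3, 1, 3, 1, 0, 2, 1, 3, 1, 3, 0, 1],
  [2, 0, 1, 3, 1, 3, 0, 1, 3, 0, 1],
  [1, 3, 3, 2, 1, 3, 3, 0, 1],
  [3, 2, 1, 3, 3, 1, 3, 2, 1, 3, 0, 1],
  [0, 2, 1, 3, 1, 3, 0, 1],
  [2, 3, 1, 3, 1, 3, 2, 1, 3, 0, 1],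
  [0, 1, 3, 2, 1, 3, 3, 0, 1],
  [3, 3, 0, 1, 3, 2, 1, 3, 3, 0, 1],
  [3, 3, 0, 2, 1, 3, 1, 3, 0, 1],
  [0, 2, 1, 3, 1, 3, 0, 2, 1, 3, 3, 1],
  [3, 1, 3, 3, 1, 3, 2, 1, 3, 1, 3, 0, 1],
  [2, 2, 0, 1, 3, 2, 1, 3, 1, 3, 1],
  [2, 3, 1, 3, 3, 1, 0, 2, 3, 1, 3, 1],
  [3, 2, 1, 3, 1, 3, 0, 1],
  [3, 2, 1, 3, 0, 1, 3, 3, 0, 1, 3, 1],
  [2, 0, 1, 3, 1, 3, 1, 3, 1, 3, 1],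
  [3, 2, 1, 3, 1, 3, 0, 2, 1, 3, 3, 1],
  [2, 3, 1, 3, 3, 2, 1, 3, 0, 1],
  [1, 3, 2, 1, 3, 3, 0, 1],
  [3, 3, 1, 3, 2, 1, 3, 3, 0, 1],
  [3, 0, 1, 3, 2, 1, 3, 3, 0, 1],
  [2, 3, 0, 1, 3, 0, 1, 3, 1],
  [3, 3, 2, 1, 3, 1, 3, 0, 1],
  [2, 1, 3, 1, 3, 0, 2, 1, 3, 3, 1],
  [2, 0, 1, 3, 3, 0, 1, 3, 0, 1, 3, 0, 1],
  [1, 3, 3, 1, 3, 2, 1, 3, 1, 3, 0, 1],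
  [2, 1, 3, 1, 3, 0, 1],
  [0, 2, 3, 1, 3, 1, 3, 2, 1, 3, 0, 1],
  [2, 3, 0, 2, 1, 3, 0, 1, 3, 0, 1],
  [1, 3, 3, 2, 0, 1, 3, 1, 3, 3, 1],
  [0, 2, 3, 0, 1, 3, 0, 1, 3, 1],
  [3, 1, 3, 2, 1, 3, 3, 0, 1],
  [3, 0, 2, 1, 3, 1, 3, 0, 1],
  [2, 1, 3, 3, 2, 1, 3, 2, 1, 3, 0, 1],
  [2, 1, 3, 0, 1, 3, 3, 0, 1, 3, 1],
  [1, 3, 3, 1, 0, 2, 1, 3, 1, 3, 0, 1],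
  [2, 1, 3, 3, 0, 1],
  [3, 0, 1, 3, 2, 1, 0, 2, 3, 1, 3, 0, 1],
  [0, 2, 1, 0, 2, 3, 1, 3, 0, 1],
  [2, 3, 0, 2, 1, 3, 2, 1, 3, 1],
  [2, 2, 1, 0, 2, 3, 1, 3, 1],
  [3, 1, 3, 3, 2, 1, 3, 1, 3, 0, 1],
  [3, 1, 3, 1, 3, 2, 1, 3, 3, 0, 1],
  [3, 1, 0, 2, 3, 0, 1, 3, 0, 1, 3, 1],
  [1, 3, 0, 2, 1, 3, 0, 1, 3, 1, 3, 1],
  [2, 3, 0, 1, 3, 1, 3, 1],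
  [3, 1, 3, 0, 1, 3, 2, 1, 3, 3, 0, 1],
  [2, 1, 3, 0, 1, 3, 3, 1, 3, 1],
  [2, 3, 3, 1, 3, 3, 1, 3, 3, 0, 1],
  [3, 1, 3, 0, 2, 1, 3, 1, 3, 0, 1],
  [1, 3, 2, 0, 1, 3, 3, 1, 3, 3, 1],
  [0, 1, 3, 1, 3, 0, 2, 1, 3, 3, 0, 1],
  [3, 2, 1, 3, 1, 3, 3, 2, 1, 3, 0, 1],
  [2, 2, 1, 0, 2, 3, 1, 3, 0, 1, 3, 1],
  [1, 0, 2, 3, 0, 1, 3, 3, 1, 3, 1],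
  [2, 3, 3, 1, 3, 2, 1, 3, 0, 1],
  [3, 2, 0, 1, 3, 1, 3, 3, 1],
  [1, 3, 1, 3, 3, 2, 1, 3, 3, 0, 1],
  [2, 2, 1, 0, 2, 3, 1, 3, 0, 2, 1, 3, 0, 1],
  [3, 1, 3, 2, 1, 3, 1, 3, 0, 1],
  [0, 2, 0, 2, 3, 0, 1, 3, 1, 3, 1],
  [3, 1, 0, 2, 1, 3, 1, 3, 0, 1],
  [3, 3, 2, 2, 1, 0, 2, 3, 1, 3, 1],
  [1, 3, 3, 1, 3, 3, 2, 1, 3, 3, 0, 1],
  [3, 3, 2, 1, 3, 3, 0, 1],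
  [2, 2, 0, 2, 1, 3, 1, 3, 1, 3, 1],
  [3, 1, 3, 3, 0, 2, 1, 3, 1, 3, 0, 1],
  [0, 1, 3, 1, 0, 2, 3, 1, 3, 0, 1],
  [2, 0, 1, 3, 1, 3, 3, 1],
  [1, 3, 3, 0, 1, 3, 2, 1, 3, 3, 0, 1],
  [1, 0, 2, 1, 3, 1, 3, 0, 1],
  [3, 0, 2, 1, 0, 2, 3, 1, 3, 0, 1],
  [2, 3, 3, 2, 1, 3, 3, 1, 3, 3, 0, 1],
  [3, 3, 1, 3, 0, 2, 1, 3, 1, 3, 0, 1],
  [1, 3, 3, 0, 2, 1, 3, 1, 3, 0, 1],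
  [3, 3, 1, 0, 2, 3, 0, 1, 3, 0, 1, 3, 1],
  [3, 3, 1, 3, 3, 2, 1, 3, 1, 3, 0, 1],
  [3, 2, 2, 1, 0, 2, 3, 1, 3, 1],
  [0, 2, 1, 3, 3, 1, 0, 2, 3, 1, 3, 0, 1],
  [1, 3, 2, 1, 3, 1, 3, 0, 1],
  [3, 2, 1, 3, 3, 0, 1],
  [1, 3, 3, 1, 3, 2, 1, 3, 3, 0, 1],
  [2, 0, 1, 3, 3, 2, 1, 3, 3, 1, 3, 1],
  [2, 1, 3, 1, 3, 3, 2, 1, 3, 0, 1],
  [1, 3, 0, 1, 3, 2, 1, 3, 3, 0, 1],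
  [2, 1, 3, 0, 1, 3, 0, 1, 3, 1],
  [1, 3, 3, 2, 1, 3, 1, 3, 0, 1],
  [2, 3, 1, 3, 0, 2, 1, 3, 3, 1],
  [2, 3, 1, 3, 0, 1],
  [0, 1, 3, 2, 1, 0, 2, 3, 1, 3, 0, 1],
  [2, 0, 1, 3, 3, 1, 3, 0, 1, 3, 0, 1],
  [3, 3, 1, 3, 2, 1, 3, 1, 3, 0, 1],
  [2, 1, 3, 0, 2, 1, 3, 0, 1, 3, 0, 1],
  [3, 3, 2, 0, 1, 3, 1, 3, 3, 1],
  [1, 0, 2, 3, 0, 1, 3, 0, 1, 3, 1],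
  [1, 3, 1, 3, 2, 1, 3, 3, 0, 1],
  [2, 3, 0, 1, 3, 3, 0, 1, 3, 1],
  [3, 3, 1, 0, 2, 1, 3, 1, 3, 0, 1],
  [1, 3, 0, 2, 1, 3, 1, 3, 0, 1],
  [2, 3, 3, 2, 1, 3, 2, 1, 3, 0, 1],
  [0, 1],
  [2, 3, 3, 0, 1, 3, 3, 1, 3, 3, 1],
  [0, 2, 1, 3, 3, 0, 1, 3, 3, 1],
  [2, 3, 0, 1, 3, 3, 2, 1, 3, 1, 3, 1],
  [3, 2, 2, 0, 2, 1, 3, 0, 1, 3, 1, 3, 1],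
  [3, 0, 1, 3, 3, 2, 1, 3, 1, 3, 1],
  [2, 3, 3, 1, 3, 0, 1, 3, 1, 3, 1],
  [3, 3, 0, 1, 3, 3, 1, 3, 3, 1],
  [0, 2, 1, 3, 3, 1],
  [2, 1, 3, 0, 1, 3, 3, 2, 1, 3, 1],
  [0, 2, 1, 3, 3, 0, 1, 3, 3, 0, 1],
  [2, 3, 0, 1, 3, 3, 2, 1, 3, 1],
  [3, 3, 1, 3, 0, 1, 3, 1, 3, 1],
  [3, 0, 1, 3, 3, 2, 1, 3, 1],
  [3, 3, 0, 2, 1, 3, 3, 1, 3, 1, 3, 1],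
  [1, 3, 0, 1, 3, 3, 2, 1, 3, 1],
  [2, 3, 3, 1, 3, 3, 0, 1],
  [2, 3, 3, 0, 1, 3, 3, 0, 1, 3, 3, 1],
  [2, 3, 0, 2, 1, 3, 1, 3, 1, 3, 1],
  [3, 3, 0, 2, 1, 3, 2, 1, 3, 3, 1],
  [3, 1, 3, 3, 0, 1, 3, 0, 1, 3, 1],
  [2, 1, 3, 3, 2, 1, 0, 2, 3, 1, 3, 1],
  [0, 2, 1, 3, 1, 3, 2, 1, 3, 1],
  [3, 3, 0, 1, 3, 1, 3, 3, 1],
  [2, 3, 3, 2, 1, 0, 2, 3, 1, 3, 1],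
  [1, 0, 2, 1, 3, 1, 3, 2, 1, 3, 1],
  [3, 1, 3, 1, 3, 1, 3, 0, 1],
  [3, 2, 1, 3, 3, 1, 3, 3, 1, 3, 0, 1],
  [0, 2, 3, 0, 1, 3, 1, 3, 1, 3, 0, 1],
  [2, 1, 3, 3, 1, 3, 3, 0, 1],
  [0, 2, 3, 0, 1, 3, 1, 3, 2, 1, 3, 0, 1],
  [0, 2, 1, 0, 2, 3, 1, 3, 2, 1, 3, 1],
  [1, 3, 2, 1, 3, 1, 3, 2, 1, 3, 0, 1],
  [2, 3, 3, 2, 0, 1, 3, 2, 1, 3, 1],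
  [3, 1, 3, 0, 1, 3, 1, 3, 3, 1],
  [2, 3, 0, 1, 3, 2, 1, 3, 1],
  [1, 3, 3, 1, 3, 1, 3, 0, 1],
  [2, 1, 3, 3, 2, 1, 3, 3, 1, 3, 0, 1],
  [3, 2, 1, 3, 3, 2, 1, 3, 0, 1],
  [2, 1, 3, 1, 3, 3, 1, 3, 0, 1],
  [0, 2, 3, 1, 3, 3, 0, 1, 3, 1],
  [2, 3, 0, 1, 3, 2, 1, 3, 1, 3, 1],
  [3, 2, 1, 3, 1, 3, 2, 1, 3, 0, 1],
  [2, 1, 3, 0, 1, 3, 2, 1, 3, 1],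
  [1, 3, 2, 1, 3, 3, 2, 1, 3, 0, 1],
  [2, 3, 3, 2, 1, 3, 3, 1, 3, 0, 1],
  [3, 3, 1, 3, 1, 3, 0, 1],
  [2, 3, 1, 3, 3, 1, 3, 0, 1],
  [1, 3, 1, 3, 3, 0, 1, 3, 3, 1, 3, 1],
  [2, 3, 3, 0, 1, 3, 1, 3, 3, 1],
  [3, 2, 0, 1, 3, 3, 0, 1, 3, 1],
  [1, 3, 1, 0, 2, 3, 1, 3, 1],
  [2, 3, 1, 3, 1, 3, 1, 3, 0, 1],
  [1, 3, 2, 0, 1, 3, 3, 0, 1, 3, 1],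
  [3, 1, 0, 2, 3, 1, 3, 1],
  [3, 1, 3, 3, 0, 1, 3, 3, 1, 3, 1],
  [2, 1, 0, 2, 1, 3, 1, 3, 2, 1, 3, 1],
  [1, 3, 2, 1, 3, 0, 1],
  [0, 1, 3, 1, 3, 0, 2, 1, 3, 0, 1],
  [0, 1, 3, 3, 2, 0, 1, 3, 1, 3, 0, 1],
  [3, 2, 1, 3, 0, 1],
  [0, 1, 3, 2, 0, 1, 3, 1, 3, 0, 1],
  [0, 1, 3, 3, 1, 3, 0, 2, 1, 3, 0, 1],
  [2, 0, 2, 1, 3, 1, 3, 2, 1, 3, 1],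
  [0, 2, 1, 3, 3, 0, 2, 1, 3, 0, 1],
  [0, 2, 1, 3, 3, 0, 1, 3, 0, 1],
  [3, 3, 2, 1, 3, 1, 3, 3, 0, 1],
  [1, 3, 3, 2, 1, 3, 1, 3, 3, 0, 1],
  [3, 3, 0, 1, 3, 1, 3, 0, 1, 3, 0, 1],
  [0, 2, 2, 1, 0, 2, 3, 1, 3, 1, 3, 0, 1],
  [2, 1, 3, 1, 3, 1, 3, 3, 0, 1],
  [2, 3, 1, 3, 1, 3, 3, 0, 1],
  [0, 2, 1, 3, 3, 0, 2, 1, 3, 1],
  [0, 2, 1, 3, 3, 0, 1, 3, 1],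
  [1, 3, 1, 3, 1, 3, 3, 0, 1],
  [3, 1, 3, 1, 3, 3, 0, 1],
  [3, 1, 3, 3, 0, 2, 1, 3, 2, 1, 3, 1],
  [0, 2, 2, 1, 0, 2, 3, 1, 3, 1, 3, 1],
  [2, 3, 3, 2, 1, 3, 1, 3, 3, 0, 1],
  [2, 1, 3, 3, 2, 1, 3, 1, 3, 3, 0, 1],
  [3, 3, 1, 3, 0, 1, 3, 0, 1, 3, 1],
  [0, 1, 3, 2, 1, 3, 0, 1, 3, 1],
  [3, 0, 1, 3, 0, 2, 1, 3, 1, 3, 1],
  [2, 1, 3, 2, 1, 3, 0, 1],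
  [2, 3, 2, 0, 1, 3, 3, 0, 1, 3, 1],
  [3, 2, 0, 2, 1, 3, 2, 1, 3, 1],
  [2, 3, 1, 0, 2, 3, 1, 3, 1],
  [1, 3, 2, 0, 1, 3, 1, 3, 1],
  [3, 2, 0, 1, 3, 1, 3, 1],
  [2, 1, 3, 1, 0, 2, 3, 1, 3, 1],
  [2, 1, 3, 2, 0, 1, 3, 3, 0, 1, 3, 1],
  [1, 3, 2, 0, 2, 1, 3, 2, 1, 3, 1],
  [2, 3, 2, 1, 3, 0, 1],
  [3, 1, 3, 2, 1, 3, 3, 1, 3, 0, 1],
  [1, 3, 3, 1, 3, 0, 1, 3, 0, 1, 3, 1],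
  [0, 1, 3, 0, 2, 1, 3, 0, 1, 3, 1],
  [3, 0, 1, 3, 2, 1, 3, 1],
  [3, 3, 2, 0, 1, 3, 2, 1, 3, 1],
  [2, 3, 2, 1, 3, 3, 2, 1, 3, 0, 1],
  [2, 1, 3, 3, 1, 3, 1, 3, 0, 1],
  [2, 0, 2, 3, 1, 3, 3, 0, 1, 3, 1],
  [1, 3, 0, 2, 1, 3, 1, 3, 3, 1],
  [3, 3, 2, 1, 3, 3, 1, 3, 0, 1],
  [3, 1, 3, 3, 1, 3, 0, 1],
  [1, 3, 0, 1, 3, 2, 1, 3, 1],
  [3, 0, 1, 3, 2, 1, 3, 1, 3, 1],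
  [2, 3, 3, 1, 3, 1, 3, 0, 1],
  [2, 1, 3, 2, 1, 3, 3, 2, 1, 3, 0, 1],
  [3, 0, 2, 1, 3, 1, 3, 3, 1],
  [2, 3, 1, 3, 0, 1, 3, 1, 3, 3, 1],
  [1, 3, 3, 2, 1, 3, 3, 1, 3, 0, 1],
  [1, 3, 1, 3, 3, 1, 3, 0, 1],
  [2, 0, 1, 3, 2, 1, 3, 0, 1, 3, 1],
  [3, 3, 1, 3, 0, 1, 3, 3, 1, 3, 1],
  [2, 1, 3, 2, 0, 1, 3, 1, 3, 1],
  [3, 3, 2, 1, 0, 2, 3, 1, 3, 1],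
  [1, 3, 3, 2, 1, 0, 2, 3, 1, 3, 1],
  [2, 3, 2, 0, 1, 3, 1, 3, 1],
  [0, 1, 3, 1, 3, 3, 0, 1, 3, 3, 0, 1],
  [1, 3, 3, 1, 3, 0, 1, 3, 3, 1, 3, 1],
  [3, 3, 1, 3, 3, 0, 1],
  [3, 0, 2, 1, 3, 1, 3, 1, 3, 1],
  [0, 1, 3, 2, 1, 3, 2, 1, 3, 1, 3, 1],
  [1, 0, 2, 3, 1, 3, 3, 1, 3, 3, 1],
  [3, 3, 0, 1, 3, 3, 0, 1, 3, 3, 1],
  [0, 2, 3, 1, 3, 3, 1, 3, 3, 1],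
  [1, 3, 0, 2, 1, 3, 1, 3, 1, 3, 1],
  [1, 3, 3, 1, 3, 3, 0, 1],
  [3, 3, 0, 1],
  [2, 0, 2, 3, 1, 3, 0, 1, 3, 3, 1],
  [2, 3, 3, 0, 1, 3, 3, 1, 3, 1],
  [0, 1, 3, 2, 1, 3, 3, 1, 3, 1],
  [1, 3, 0, 2, 1, 3, 2, 1, 3, 1],
  [0, 1, 3, 3, 1, 3, 3, 1],
  [0, 2, 1, 3, 1, 3, 2, 1, 3, 3, 1],
  [1, 3, 3, 1, 3, 3, 1, 3, 3, 0, 1],
  [0, 2, 1, 3, 3, 1, 3, 3, 2, 1, 3, 1],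
  [3, 0, 1, 3, 3, 1, 3, 1],
  [2, 0, 2, 3, 1, 3, 1],
  [2, 0, 2, 3, 1, 3, 0, 1, 3, 3, 0, 1],
  [1, 3, 0, 1, 3, 1, 3, 1],
  [0, 2, 1, 3, 3, 1, 3, 1, 3, 1],
  [2, 3, 0, 1, 3, 3, 1, 3, 3, 1],
  [2, 0, 1, 3, 3, 2, 1, 3, 1, 3, 1],
  [1, 3, 1, 3, 1, 3, 2, 1, 3, 0, 1],
  [0, 2, 1, 3, 2, 1, 3, 3, 1],
  [2, 3, 3, 1, 3, 0, 1],
  [2, 1, 3, 2, 1, 3, 3, 1, 3, 0, 1],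
  [2, 1, 3, 2, 0, 1, 3, 2, 1, 3, 1],
  [0, 1, 3, 1, 3, 3, 1],
  [0, 1, 3, 3, 2, 1, 3, 3, 1, 3, 1],
  [1, 3, 1, 3, 3, 2, 1, 3, 0, 1],
  [0, 2, 3, 3, 1, 3, 2, 1, 3, 1],
  [2, 3, 2, 1, 3, 1, 3, 1, 3, 0, 1],
  [2, 1, 3, 0, 2, 1, 3, 0, 1, 3, 3, 1],
  [2, 1, 3, 3, 1, 3, 1, 3, 2, 1, 3, 0, 1],
  [0, 1, 3, 1, 3, 1, 3, 3, 1, 3, 1],
  [1, 3, 1, 3, 3, 1, 0, 2, 3, 1, 3, 1],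
  [3, 3, 2, 1, 3, 3, 1, 3, 3, 0, 1],
  [3, 1, 3, 3, 1, 3, 1, 3, 3, 0, 1],
  [2, 3, 3, 0, 1, 3, 0, 1, 3, 1],
  [3, 0, 1, 3, 0, 1, 3, 1],
  [2, 3, 3, 0, 2, 1, 3, 0, 1, 3, 0, 1],
  [1, 3, 3, 2, 1, 3, 2, 1, 3, 0, 1],
  [1, 3, 1, 3, 0, 2, 1, 3, 3, 1],
  [2, 3, 1, 3, 1, 3, 0, 1],
  [2, 3, 1, 3, 0, 1, 3, 3, 0, 1, 3, 1],
  [1, 3, 0, 1, 3, 3, 0, 1, 3, 1],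
  [3, 0, 2, 1, 3, 0, 1, 3, 0, 1],
  [2, 1, 3, 0, 1, 3, 1, 3, 3, 1],
  [0, 1, 3, 3, 0, 1, 3, 0, 1, 3, 0, 1],
  [3, 1, 3, 1, 3, 3, 1, 3, 3, 0, 1],
  [2, 3, 3, 2, 1, 3, 2, 1, 3, 3, 0, 1],
  [3, 2, 1, 3, 2, 1, 3, 3, 0, 1],
  [0, 1, 3, 2, 1, 3, 0, 2, 1, 3, 1],
  [1, 3, 1, 3, 0, 1],
  [2, 3, 3, 0, 2, 1, 3, 2, 1, 3, 1],
  [2, 3, 0, 1, 3, 3, 0, 1, 3, 3, 1],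
  [2, 3, 3, 0, 1, 3, 1, 3, 1],
  [3, 3, 1, 3, 1, 0, 2, 3, 1, 3, 1],
  [2, 1, 3, 2, 1, 3, 1, 3, 3, 0, 1],
  [2, 3, 2, 1, 0, 2, 3, 1, 3, 1],
  [2, 1, 0, 2, 3, 1, 3, 0, 2, 1, 3, 0, 1],
  [2, 1, 0, 2, 3, 1, 3, 0, 1, 3, 0, 1],
  [3, 3, 1, 3, 2, 1, 3, 0, 1],
  [3, 2, 1, 3, 0, 2, 1, 3, 1, 3, 0, 1],
  [3, 2, 1, 3, 1, 3, 2, 1, 3, 3, 0, 1],
  [0, 1, 3, 0, 1, 3, 0, 1, 3, 0, 1],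
  [2, 1, 0, 2, 3, 1, 3, 0, 1, 3, 1],
  [3, 1, 3, 3, 0, 1, 3, 2, 1, 3, 1],
  [2, 3, 1, 3, 3, 0, 1],
  [2, 0, 2, 1, 3, 1, 3, 1, 3, 1],
  [1, 3, 0, 1, 3, 0, 1, 3, 1],
  [2, 1, 3, 3, 0, 1, 3, 0, 1, 3, 1],
  [3, 0, 2, 1, 3, 0, 2, 1, 3, 1, 3, 1],
  [3, 3, 2, 1, 3, 2, 1, 3, 0, 1],
  [3, 1, 3, 0, 2, 1, 3, 3, 1],
  [2, 1, 3, 1, 3, 1, 3, 0, 1],
  [3, 0, 1, 3, 3, 0, 1, 3, 1],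
  [0, 2, 3, 1, 3, 3, 0, 2, 1, 3, 1],
  [2, 3, 0, 1, 3, 1, 3, 3, 1],
  [1, 3, 0, 2, 1, 3, 0, 1, 3, 0, 1],
  [0, 1, 3, 3, 1, 3, 0, 1, 3, 0, 1],
  [1, 3, 1, 3, 1, 3, 3, 1, 3, 3, 0, 1],
  [2, 1, 3, 3, 2, 1, 3, 2, 1, 3, 3, 0, 1],
  [1, 3, 2, 1, 3, 2, 1, 3, 3, 0, 1],
  [3, 1, 3, 0, 1],
  [2, 0, 1, 3, 1, 3, 0, 1, 3, 3, 0, 1],
  [2, 0, 2, 3, 1, 3, 0, 2, 1, 3, 1],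
  [2, 0, 2, 3, 1, 3, 0, 1, 3, 1],
  [2, 1, 3, 1, 3, 3, 0, 1],
  [2, 1, 0, 2, 1, 3, 1, 3, 1, 3, 1],
  [1, 3, 3, 1, 3, 2, 1, 3, 0, 1],
  [3, 2, 1, 3, 3, 2, 1, 3, 3, 0, 1],
  [0, 1, 3, 1, 3, 0, 1, 3, 0, 1],
  [3, 1, 0, 2, 3, 1, 3, 3, 1, 3, 1],
  [3, 3, 1, 3, 1, 3, 1, 3, 3, 0, 1],
  [2, 3, 2, 1, 3, 1, 3, 3, 0, 1],
  [2, 0, 2, 3, 1, 3, 0, 2, 1, 3, 0, 1],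
  [2, 0, 2, 3, 1, 3, 0, 1, 3, 0, 1],
  [2, 1, 3, 3, 0, 2, 1, 3, 2, 1, 3, 1],
  [2, 1, 3, 0, 1, 3, 3, 0, 1, 3, 3, 1],
  [3, 1, 3, 3, 1, 3, 1, 3, 1, 3, 0, 1],
  [2, 1, 3, 3, 0, 1, 3, 1, 3, 1],
  [3, 1, 3, 1, 3, 3, 1, 3, 1, 3, 0, 1],
  [1, 3, 0, 1, 3, 3, 1, 3, 1],
  [3, 3, 2, 1, 3, 2, 0, 1, 3, 1, 3, 1],
  [2, 1, 0, 2, 3, 1, 3, 1],
  [1, 0, 2, 1, 3, 3, 1, 3, 1, 3, 1],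
  [3, 0, 1, 3, 1, 3, 1],
  [2, 1, 3, 0, 1, 3, 3, 1, 3, 3, 1],
  [2, 0, 1, 3, 3, 0, 2, 1, 3, 1, 3, 1],
  [1, 3, 3, 0, 1],
  [0, 2, 3, 1, 3, 3, 2, 1, 3, 1, 3, 1],
  [0, 1, 3, 0, 2, 1, 3, 3, 1, 3, 1],
  [3, 2, 1, 3, 2, 1, 3, 1, 3, 0, 1],
  [0, 1, 3, 3, 0, 1, 3, 3, 1],
  [3, 0, 2, 1, 3, 2, 1, 3, 1],
  [3, 0, 1, 3, 1, 3, 2, 1, 3, 3, 1],
  [3, 3, 1, 3, 3, 1, 3, 3, 0, 1],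
  [2, 3, 2, 0, 1, 3, 2, 1, 3, 1],
  [2, 0, 1, 3, 2, 1, 3, 1],
  [3, 1, 3, 3, 2, 1, 3, 0, 1],
  [3, 3, 2, 1, 3, 3, 1, 3, 1, 3, 0, 1],
  [0, 2, 1, 3, 0, 1, 3, 3, 1],
  [3, 1, 3, 1, 3, 2, 1, 3, 0, 1],
  [2, 1, 3, 3, 1, 3, 0, 1],
  [2, 3, 2, 1, 3, 3, 1, 3, 0, 1],
  [2, 3, 3, 1, 3, 3, 2, 1, 3, 0, 1],
  [3, 1, 3, 3, 1, 0, 2, 3, 1, 3, 1],
  [2, 0, 1, 3, 2, 1, 3, 1, 3, 1],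
  [1, 3, 3, 2, 1, 3, 3, 1, 3, 3, 0, 1],
  [2, 1, 3, 2, 1, 3, 1, 3, 1, 3, 0, 1],
  [0, 1, 3, 1, 3, 1, 3, 1, 3, 1],
  [2, 3, 0, 2, 1, 3, 0, 1, 3, 3, 1],
  [2, 3, 3, 1, 3, 1, 3, 2, 1, 3, 0, 1],
  [2, 3, 0, 1],
  [0, 2, 3, 1, 3, 0, 1, 3, 3, 1],
  [2, 3, 3, 0, 1, 3, 3, 2, 1, 3, 1],
  [3, 0, 1, 3, 2, 1, 3, 3, 1, 3, 1],
  [0, 1, 3, 3, 2, 1, 3, 1, 3, 1],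
  [3, 0, 1, 3, 3, 1, 3, 3, 1],
  [2, 2, 0, 2, 1, 3, 0, 1, 3, 1, 3, 1],
  [2, 1, 3, 2, 1, 3, 2, 1, 3, 0, 1],
  [0, 1, 3, 3, 2, 1, 3, 1],
  [2, 0, 2, 3, 1, 3, 2, 1, 3, 1, 3, 1],
  [3, 1, 3, 0, 1, 3, 1, 3, 1],
  [3, 0, 2, 1, 3, 3, 1, 3, 1, 3, 1],
  [0, 2, 3, 1, 3, 1],
  [0, 2, 3, 1, 3, 0, 1, 3, 3, 0, 1],
  [0, 1, 3, 0, 1, 3, 3, 0, 1, 3, 0, 1],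
  [3, 3, 0, 1, 3, 3, 1, 3, 1],
  [2, 3, 3, 2, 1, 3, 0, 1],
  [0, 1, 3, 1, 3, 0, 1, 3, 3, 0, 1],
  [3, 1, 3, 1, 3, 1, 3, 2, 1, 3, 0, 1],
  [3, 0, 2, 1, 3, 2, 1, 3, 3, 1],
  [1, 3, 3, 0, 1, 3, 0, 1, 3, 1],
  [3, 1, 3, 1, 3, 3, 2, 1, 3, 0, 1],
  [2, 3, 1, 3, 1, 0, 2, 3, 1, 3, 1],
  [3, 0, 1, 3, 1, 3, 3, 1],
  [2, 1, 3, 1, 3, 0, 1, 3, 2, 1, 3, 1],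
  [0, 1, 3, 3, 2, 1, 3, 3, 2, 1, 3, 1],
  [2, 3, 1, 3, 2, 1, 3, 0, 1],
  [1, 3, 3, 0, 2, 1, 3, 0, 1, 3, 0, 1],
  [2, 3, 3, 1, 0, 2, 3, 1, 3, 1],
  [1, 3, 1, 3, 1, 3, 0, 1],
  [1, 3, 3, 2, 1, 3, 2, 1, 3, 3, 0, 1],
  [2, 1, 3, 3, 1, 3, 3, 1, 3, 0, 1],
  [2, 3, 3, 2, 0, 2, 1, 3, 2, 1, 3, 1],
  [2, 0, 1, 3, 3, 0, 1, 3, 1],
  [2, 3, 3, 2, 0, 1, 3, 1, 3, 1],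
  [2, 0, 2, 1, 3, 3, 1, 3, 0, 1, 3, 1],
  [2, 3, 1, 3, 2, 0, 1, 3, 1, 3, 1],
  [1, 0, 2, 3, 1, 3, 1],
  [0, 1, 3, 1, 3, 3, 0, 1, 3, 0, 1],
  [1, 3, 3, 0, 1, 3, 3, 1, 3, 1],
  [2, 1, 3, 0, 1],
  [3, 2, 0, 2, 1, 3, 1, 3, 1, 3, 1],
  [2, 3, 0, 1, 3, 2, 1, 3, 0, 1, 3, 1],
  [3, 3, 1, 3, 3, 0, 1, 3, 2, 1, 3, 1],
  [0, 1, 3, 3, 0, 2, 1, 3, 1, 3, 1],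
  [1, 3, 0, 1, 3, 3, 1, 3, 3, 1],
  [2, 3, 2, 1, 3, 2, 1, 3, 0, 1],
  [2, 0, 2, 1, 3, 0, 2, 1, 3, 1, 3, 1],
  [2, 3, 3, 0, 1, 3, 2, 1, 3, 1],
  [3, 3, 0, 1, 3, 0, 1, 3, 1],
  [0, 2, 3, 3, 0, 2, 1, 3, 1, 3, 1],
  [1, 3, 0, 1, 3, 1, 3, 3, 1],
  [3, 1, 3, 1, 3, 0, 2, 1, 3, 3, 1],
  [2, 1, 3, 3, 2, 1, 3, 0, 1],
  [2, 3, 1, 3, 1, 3, 3, 1, 3, 0, 1],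
  [3, 1, 3, 0, 1, 3, 3, 0, 1, 3, 1],
  [2, 1, 3, 3, 1, 0, 2, 3, 1, 3, 1],
  [3, 1, 3, 1, 3, 0, 1],
  [2, 3, 3, 1, 3, 3, 1, 3, 0, 1],
  [3, 3, 2, 1, 3, 2, 1, 3, 3, 0, 1],
  [2, 3, 1, 3, 0, 1, 3, 2, 1, 3, 1],
  [0, 2, 1, 0, 2, 3, 1, 3, 1, 3, 1],
  [3, 3, 0, 2, 1, 3, 0, 1, 3, 0, 1],
  [2, 1, 3, 1, 3, 2, 1, 3, 0, 1],
  [1, 0, 2, 3, 1, 3, 0, 1, 3, 1],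
  [3, 1, 3, 0, 1, 3, 3, 1, 3, 1],
  [1, 3, 2, 1, 3, 1, 3, 3, 0, 1],
  [3, 2, 1, 0, 2, 3, 1, 3, 1],
  [3, 1, 0, 2, 1, 3, 3, 1, 3, 1, 3, 1],
  [3, 3, 0, 1, 3, 1, 3, 1],
  [0, 1, 3, 2, 1, 3, 3, 2, 1, 3, 1],
  [0, 1, 3, 3, 1, 3, 0, 1, 3, 3, 0, 1],
  [2, 1, 3, 3, 1, 3, 1, 3, 3, 0, 1],
  [2, 3, 2, 1, 3, 3, 1, 3, 3, 0, 1],
  [3, 0, 1, 3, 3, 0, 1, 3, 3, 1],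
  [3, 3, 0, 2, 1, 3, 2, 1, 3, 1],
  [1, 0, 2, 3, 1, 3, 0, 2, 1, 3, 0, 1],
  [1, 0, 2, 3, 1, 3, 0, 1, 3, 0, 1],
  [3, 1, 3, 3, 0, 1],
  [0, 2, 1, 3, 1, 3, 1, 3, 1],
  [0, 1, 3, 2, 1, 3, 1],
  [3, 2, 0, 1, 3, 2, 1, 3, 1],
  [3, 3, 1, 3, 3, 2, 1, 3, 0, 1],
  [1, 3, 0, 1, 3, 3, 1, 3, 0, 1, 3, 0, 1],
  [3, 0, 2, 1, 3, 0, 1, 3, 3, 1],
  [3, 3, 1, 3, 1, 3, 2, 1, 3, 0, 1],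
  [3, 2, 1, 3, 3, 1, 3, 0, 1],
  [1, 3, 3, 1, 3, 0, 1],
  [0, 2, 1, 3, 1, 3, 3, 1],
  [1, 3, 3, 0, 1, 3, 3, 0, 1, 3, 1],
  [1, 3, 3, 1, 3, 0, 2, 1, 3, 3, 1],
  [1, 3, 2, 1, 3, 1, 3, 1, 3, 0, 1],
  [2, 1, 3, 1, 3, 3, 1, 3, 3, 0, 1],
  [0, 1, 3, 2, 1, 3, 1, 3, 1],
  [1, 3, 1, 3, 0, 1, 3, 0, 1, 3, 1],
  [2, 3, 1, 3, 3, 1, 3, 1, 3, 0, 1],
  [0, 2, 3, 1, 3, 0, 2, 1, 3, 1],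
  [0, 2, 3, 1, 3, 0, 1, 3, 1],
  [3, 2, 1, 3, 1, 3, 3, 0, 1],
  [1, 3, 2, 1, 0, 2, 3, 1, 3, 1],
  [1, 3, 3, 0, 1, 3, 1, 3, 1],
  [3, 3, 2, 1, 3, 3, 2, 1, 3, 3, 0, 1],
  [3, 0, 1, 3, 1, 3, 0, 1, 3, 0, 1],
  [3, 3, 1, 0, 2, 3, 1, 3, 3, 1, 3, 1],
  [2, 3, 3, 1, 3, 1, 3, 3, 0, 1],
  [2, 3, 1, 3, 1, 3, 1, 3, 3, 0, 1],
  [1, 3, 3, 0, 2, 1, 3, 2, 1, 3, 1],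
  [1, 3, 0, 1, 3, 3, 0, 1, 3, 3, 1],
  [0, 2, 3, 1, 3, 0, 2, 1, 3, 0, 1],
  [0, 2, 3, 1, 3, 0, 1, 3, 0, 1],
  [1, 0, 2, 1, 3, 1, 3, 1, 3, 1],
  [1, 3, 1, 3, 3, 0, 1],
  [0, 1, 3, 0, 2, 1, 3, 1, 3, 1],
  [2, 3, 1, 3, 3, 1, 3, 3, 0, 1],
  [3, 1, 3, 0, 1, 3, 0, 1, 3, 1],
  [0, 1, 3, 3, 1, 3, 3, 0, 1, 3, 0, 1],
  [3, 3, 0, 1, 3, 3, 0, 1, 3, 1],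
  [2, 0, 2, 1, 3, 2, 1, 3, 1],
  [3, 3, 1, 3, 0, 2, 1, 3, 3, 1],
  [3, 2, 1, 3, 1, 3, 1, 3, 0, 1],
  [1, 3, 0, 2, 1, 3, 0, 1, 3, 3, 1],
  [1, 3, 3, 1, 3, 1, 3, 2, 1, 3, 0, 1],
  [3, 3, 1, 3, 0, 1],
  [1, 3, 2, 1, 3, 3, 1, 3, 0, 1],
  [2, 0, 1, 3, 1, 3, 1],
  [1, 3, 2, 0, 1, 3, 2, 1, 3, 1],
  [3, 0, 1, 3, 3, 1, 3, 0, 1, 3, 0, 1],
  [1, 3, 3, 1, 3, 3, 2, 1, 3, 0, 1],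
  [3, 0, 1],
  [0, 2, 0, 2, 3, 3, 1, 3, 1, 3, 1],
  [2, 3, 3, 2, 0, 1, 3, 3, 1, 3, 3, 1],
  [0, 1, 3, 3, 1, 3, 2, 1, 3, 3, 1],
  [0, 1, 3, 2, 1, 3, 0, 1, 3, 3, 0, 1],
  [2, 3, 2, 0, 1, 3, 3, 1, 3, 3, 1],
  [0, 2, 1, 3, 3, 1, 3, 1, 3, 3, 1],
  [1, 3, 3, 2, 0, 1, 3, 1, 3, 1],
  [1, 3, 2, 1, 3, 2, 1, 3, 0, 1],
  [2, 0, 2, 1, 3, 0, 1, 3, 1, 3, 1],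
  [3, 3, 0, 1, 3, 3, 2, 1, 3, 1],
  [3, 1, 3, 0, 1, 3, 3, 2, 1, 3, 1],
  [0, 2, 3, 1, 3, 2, 1, 3, 1, 3, 1],
  [0, 1, 3, 3, 1, 3, 1],
  [3, 0, 2, 1, 3, 3, 1],
  [1, 3, 1, 3, 2, 0, 1, 3, 1, 3, 1],
  [2, 3, 3, 2, 1, 3, 3, 0, 1],
  [1, 3, 2, 1, 3, 1, 3, 1, 3, 3, 0, 1],
  [2, 0, 2, 0, 2, 3, 0, 1, 3, 1, 3, 1],
  [0, 2, 3, 1, 3, 3, 1, 3, 1],
  [1, 3, 0, 2, 1, 3, 3, 0, 1, 3, 0, 1],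
  [3, 0, 2, 1, 3, 1, 3, 2, 1, 3, 1],
  [2, 1, 3, 1, 3, 3, 2, 1, 3, 3, 0, 1],
  [2, 3, 2, 0, 1, 3, 1, 3, 3, 1],
  [3, 2, 1, 3, 3, 1, 3, 3, 0, 1],
  [1, 3, 3, 1, 3, 1, 3, 3, 0, 1],
  [2, 3, 1, 3, 2, 1, 3, 1, 3, 0, 1],
  [1, 3, 0, 2, 1, 3, 3, 0, 2, 1, 3, 1],
  [3, 1, 0, 2, 1, 3, 1, 3, 2, 1, 3, 1],
  [2, 0, 1, 3, 1, 0, 2, 3, 1, 3, 0, 1],
  [2, 3, 3, 2, 2, 1, 0, 2, 3, 1, 3, 1],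
  [3, 3, 1, 3, 1, 3, 1, 3, 0, 1],
  [2, 3, 3, 1, 0, 2, 1, 3, 1, 3, 0, 1],
  [1, 3, 1, 3, 1, 3, 3, 1, 3, 0, 1],
  [2, 3, 3, 2, 0, 1, 3, 1, 3, 3, 1],
  [3, 1, 3, 1, 0, 2, 3, 1, 3, 1],
  [2, 1, 3, 3, 2, 1, 3, 1, 3, 0, 1],
  [3, 3, 1, 0, 2, 3, 1, 3, 1],
  [3, 1, 3, 2, 0, 1, 3, 3, 0, 1, 3, 1],
  [1, 3, 1, 3, 0, 1, 3, 2, 1, 3, 1],
  [3, 0, 1, 3, 2, 0, 1, 3, 1, 3, 0, 1],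
  [1, 3, 3, 0, 1, 3, 2, 1, 3, 1],
  [3, 3, 2, 1, 3, 0, 1],
  [1, 3, 2, 1, 3, 3, 1, 3, 1, 3, 0, 1],
  [3, 1, 3, 2, 1, 3, 0, 1],
  [2, 1, 3, 0, 2, 1, 3, 1, 3, 0, 1],
  [2, 1, 3, 1, 3, 2, 1, 3, 3, 0, 1],
  [1, 3, 3, 1, 3, 3, 1, 3, 0, 1],
  [0, 2, 3, 3, 0, 1, 3, 2, 1, 3, 0, 1],
  [0, 1, 3, 0, 1, 3, 1],
  [2, 3, 3, 0, 2, 1, 3, 1, 3, 0, 1],
  [3, 3, 1, 3, 0, 1, 3, 1, 3, 3, 1],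
  [3, 1, 3, 3, 1, 3, 1, 3, 0, 1],
  [3, 3, 2, 1, 3, 3, 2, 1, 3, 0, 1],
  [2, 2, 0, 1, 3, 1, 3, 1, 3, 1, 3, 1],
  [3, 2, 1, 3, 1, 3, 3, 1, 3, 0, 1],
  [2, 3, 3, 1, 3, 2, 1, 3, 3, 0, 1],
  [2, 1, 3, 2, 1, 3, 3, 0, 1],
  [3, 1, 3, 2, 1, 3, 3, 2, 1, 3, 0, 1],
  [2, 3, 2, 1, 3, 1, 3, 0, 1],
  [0, 2, 1, 3, 0, 1, 3, 0, 1],
  [3, 3, 2, 1, 3, 1, 3, 2, 1, 3, 0, 1],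
  [0, 1, 3, 0, 1, 3, 2, 1, 3, 3, 1],
  [1, 3, 1, 3, 3, 1, 3, 3, 0, 1],
  [3, 3, 0, 1, 3, 2, 1, 3, 1],
  [2, 3, 0, 1, 3, 2, 1, 3, 3, 0, 1],
  [1, 3, 3, 2, 1, 3, 0, 1],
  [3, 2, 1, 3, 3, 1, 3, 1, 3, 0, 1],
  [2, 3, 0, 2, 1, 3, 1, 3, 0, 1],
  [1, 3, 1, 3, 2, 1, 3, 0, 1],
  [2, 3, 1, 3, 2, 1, 3, 3, 0, 1],
  [3, 3, 1, 3, 3, 1, 3, 0, 1],
  [3, 1, 3, 3, 2, 1, 3, 3, 1, 3, 0, 1],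
  [3, 1, 3, 1, 3, 3, 1, 3, 0, 1],
  [3, 3, 0, 2, 1, 3, 1, 3, 3, 1],
  [2, 1, 3, 3, 2, 0, 1, 3, 1, 3, 3, 1],
  [2, 3, 3, 2, 1, 3, 1, 3, 0, 1],
  [1, 3, 3, 1, 0, 2, 3, 1, 3, 1],
  [3, 1, 3, 0, 1, 3, 2, 1, 3, 1],
  [3, 3, 0, 1, 3, 2, 1, 3, 1, 3, 1],
  [1, 3, 1, 3, 3, 1, 3, 1, 3, 0, 1],
  [1, 3, 3, 2, 1, 3, 3, 2, 1, 3, 0, 1],
  [3, 2, 1, 3, 2, 0, 1, 3, 1, 3, 1],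
  [2, 3, 2, 2, 1, 0, 2, 3, 1, 3, 1],
  [3, 1, 3, 3, 2, 1, 0, 2, 3, 1, 3, 1],
  [0, 1, 3, 1, 3, 1],
  [0, 2, 1, 3, 2, 1, 3, 2, 1, 3, 3, 1],
  [2, 1, 3, 3, 0, 2, 1, 3, 1, 3, 0, 1],
  [2, 3, 0, 2, 1, 0, 2, 3, 1, 3, 0, 1],
  [0, 2, 1, 3, 2, 1, 3, 1],
  [0, 1, 3, 1, 3, 2, 1, 3, 3, 1],
  [3, 1, 3, 3, 1, 3, 3, 0, 1],
  [2, 3, 2, 1, 3, 3, 0, 1],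
  [3, 3, 0, 2, 1, 3, 1, 3, 1, 3, 1],
  [1, 3, 1, 3, 2, 1, 3, 3, 2, 1, 3, 0, 1],
  [2, 1, 3, 2, 1, 3, 1, 3, 0, 1],
  [0, 2, 1, 3, 0, 2, 1, 3, 1, 3, 1],
  [3, 2, 1, 3, 2, 1, 3, 0, 1],
  [1, 3, 3, 0, 1, 3, 3, 2, 1, 3, 1],
  [3, 0, 1, 3, 2, 1, 3, 0, 1, 3, 1],
  [0, 1, 3, 3, 0, 1, 3, 1],
  [3, 3, 2, 0, 2, 1, 3, 2, 1, 3, 1],
  [1, 3, 0, 2, 1, 3, 3, 1],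
  [3, 1, 3, 2, 0, 1, 3, 1, 3, 1],
  [1, 3, 0, 1],
  [3, 3, 1, 3, 2, 1, 3, 3, 1, 3, 0, 1],
  [2, 3, 1, 3, 1, 3, 2, 1, 3, 3, 0, 1],
  [3, 0, 1, 3, 0, 2, 1, 3, 0, 1, 3, 1],
  [0, 1, 3, 0, 2, 1, 3, 0, 1, 3, 3, 0, 1],
  [3, 1, 3, 2, 0, 2, 1, 3, 2, 1, 3, 1],
  [3, 3, 2, 0, 1, 3, 1, 3, 1],
  [0, 2, 1, 3, 3, 1, 3, 0, 1, 3, 1],
  [3, 0, 2, 1, 3, 3, 0, 2, 1, 3, 0, 1],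
  [3, 0, 2, 1, 3, 3, 0, 1, 3, 0, 1],
  [2, 3, 1, 3, 3, 2, 1, 3, 3, 0, 1],
  [2, 1, 3, 2, 0, 1, 3, 1, 3, 3, 1],
  [3, 2, 1, 3, 1, 3, 1, 3, 3, 0, 1],
  [2, 1, 3, 3, 2, 1, 3, 3, 0, 1],
  [2, 3, 2, 0, 1, 3, 1, 3, 0, 1, 3, 0, 1],
  [1, 0, 2, 3, 1, 3, 3, 1, 3, 1],
  [0, 2, 1, 0, 2, 3, 1, 3, 1, 3, 3, 1],
  [2, 2, 0, 1, 3, 1, 3, 0, 1, 3, 0, 1],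
  [1, 3, 3, 1, 3, 1, 3, 1, 3, 0, 1],
  [2, 3, 1, 3, 2, 0, 1, 3, 1, 3, 3, 1],
  [3, 1, 3, 1, 3, 1, 3, 3, 0, 1],
  [3, 3, 1, 3, 1, 3, 3, 0, 1],
  [3, 0, 2, 1, 3, 3, 0, 2, 1, 3, 1],
  [3, 0, 2, 1, 3, 3, 0, 1, 3, 1],
  [],
  [1, 3, 3, 1, 3, 2, 1, 3, 3, 1, 3, 1],
  [0, 2, 3, 1, 3, 0, 2, 1, 3, 1, 3, 1],
  [0, 2, 1, 3, 3, 0, 1, 3, 0, 1, 3, 0, 1],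
  [2, 3, 3, 0, 1, 3, 3, 1],
  [2, 3, 1, 3, 0, 1, 3, 3, 2, 1, 3, 0, 1],
  [2, 1, 3, 1, 3, 3, 0, 1, 3, 1],
  [0, 2, 1, 3, 2, 1, 3, 0, 1, 3, 1],
  [2, 3, 3, 0, 2, 1, 3, 3, 1, 3, 1],
  [1, 3, 3, 1, 3, 3, 1, 3, 3, 1],
  [1, 3, 3, 0, 1, 3, 1, 3, 0, 1],
  [3, 1, 0, 2, 3, 1, 3, 3, 1, 3, 0, 1],
  [2, 2, 0, 2, 3, 1, 3, 2, 1, 3, 1],
  [1, 3, 1, 3, 3, 2, 1, 3, 1, 3, 1],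
  [3, 1, 3, 3, 0, 1, 3, 1, 3, 0, 1],
  [1, 0, 2, 3, 1, 3, 3, 1, 3, 0, 1],
  [2, 0, 2, 1, 3, 3, 1, 3, 1],
  [2, 3, 1, 3, 2, 1, 3, 2, 1, 3, 1],
  [3, 2, 0, 1, 3, 1, 3, 0, 1, 3, 1],
  [0, 2, 1, 3, 3, 0, 1, 3, 1, 3, 0, 1],
  [2, 0, 2, 3, 1, 3, 2, 1, 3, 1],
  [2, 0, 1, 3, 3, 1, 3, 1, 3, 3, 1],
  [2, 2, 0, 1, 3, 1, 3, 0, 1, 3, 1],
  [1, 3, 1, 0, 2, 1, 3, 1, 3, 1],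
  [3, 2, 0, 2, 1, 3, 3, 1, 3, 1],
  [2, 1, 3, 3, 1, 3, 3, 1, 3, 3, 1],
  [2, 1, 3, 3, 0, 1, 3, 1, 3, 0, 1],
  [1, 3, 1, 3, 3, 0, 2, 1, 3, 1],
  [0, 2, 3, 1, 3, 2, 1, 3, 1],
  [0, 1, 3, 3, 1, 3, 1, 3, 3, 1],
  [2, 0, 1, 3, 1, 3, 0, 1, 3, 1],
  [3, 1, 3, 1, 0, 2, 1, 3, 1, 3, 1],
  [2, 3, 3, 1],
  [2, 1, 3, 2, 1, 3, 3, 1, 3, 1],
  [0, 2, 1, 3, 1, 3, 3, 0, 1, 3, 1],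
  [2, 1, 3, 3, 0, 1, 3, 0, 1, 3, 0, 1],
  [2, 3, 3, 0, 1, 3, 3, 0, 1],
  [0, 2, 1, 3, 2, 1, 3, 3, 1, 3, 1],
  [2, 3, 1, 3, 0, 2, 1, 3, 1, 3, 1],
  [2, 1, 3, 2, 1, 3, 0, 1, 3, 1],
  [2, 3, 3, 0, 2, 1, 3, 3, 1, 3, 0, 1],
  [0, 1, 3, 1, 3, 3, 2, 1, 3, 1],
  [1, 3, 0, 2, 1, 3, 3, 2, 1, 3, 0, 1],
  [3, 2, 1, 3, 1, 3, 1, 3, 0, 1, 3, 1],
  [2, 2, 0, 2, 3, 1, 3, 2, 1, 3, 0, 1],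
  [1, 3, 1, 3, 3, 2, 1, 3, 1],
  [0, 1, 3, 3, 0, 1, 3, 1, 3, 0, 1],
  [2, 1, 3, 1, 3, 1, 3, 0, 1, 3, 1],
  [3, 3, 1, 3, 3, 1, 3, 1, 3, 3, 1],
  [2, 3, 1, 3, 2, 1, 3, 1],
  [2, 3, 0, 1, 3, 1, 3, 3, 0, 1],
  [1, 3, 0, 2, 1, 3, 0, 1],
  [1, 3, 3, 1, 3, 1, 3, 3, 1],
  [3, 2, 1, 3, 3, 1, 3, 3, 1],
  [3, 2, 0, 1, 3, 1, 3, 0, 1],
  [3, 3, 1, 3, 0, 2, 1, 3, 0, 1],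
  [1, 3, 3, 2, 1, 3, 2, 1, 3, 3, 1],
  [2, 1, 3, 3, 1, 3, 3, 1],
  [2, 0, 1, 3, 1, 3, 0, 1],
  [3, 1, 3, 0, 2, 1, 3, 0, 1],
  [3, 1, 3, 3, 1, 3, 1, 3, 3, 1],
  [3, 3, 2, 1, 3, 3, 1, 3, 3, 1],
  [3, 3, 2, 0, 1, 3, 1, 3, 0, 1],
  [2, 3, 1, 0, 2, 3, 1, 3, 3, 1],
  [0, 1, 3, 3, 1],
  [3, 2, 1, 3, 0, 1, 3, 3, 2, 1, 3, 0, 1],
  [3, 3, 1, 3, 1, 3, 3, 0, 1, 3, 1],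
  [1, 3, 3, 1, 3, 2, 1, 3, 0, 1, 3, 1],
  [3, 0, 2, 1, 3, 3, 1, 3, 1],
  [3, 3, 1, 3, 2, 1, 3, 2, 1, 3, 1],
  [0, 1, 3, 1, 3, 0, 1, 3, 1],
  [1, 3, 3, 0, 2, 1, 3, 2, 1, 3, 0, 1],
  [0, 2, 3, 1, 3, 2, 1, 3, 3, 1],
  [1, 3, 2, 1, 3, 2, 1, 3, 1],
  [1, 3, 2, 0, 1, 3, 1, 3, 3, 0, 1],
  [2, 1, 3, 1, 3, 3, 0, 2, 1, 3, 1],
  [3, 3, 0, 1, 3, 3, 1],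
  [3, 1, 3, 0, 1, 3, 3, 2, 1, 3, 0, 1],
  [1, 3, 1, 3, 3, 0, 1, 3, 1],
  [1, 0, 2, 1, 3, 1, 3, 1, 3, 0, 1],
  [0, 2, 1, 3, 3, 1, 3, 1],
  [3, 1, 3, 2, 1, 3, 2, 1, 3, 1],
  [3, 1, 3, 2, 0, 1, 3, 1, 3, 3, 0, 1],
  [3, 2, 1, 3, 1, 3, 3, 0, 2, 1, 3, 1],
  [2, 3, 0, 1, 3, 3, 1],
  [2, 1, 3, 0, 1, 3, 3, 2, 1, 3, 0, 1],
  [3, 1, 3, 1, 3, 3, 0, 1, 3, 1],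
  [3, 1, 0, 2, 1, 3, 1, 3, 1, 3, 0, 1],
  [3, 3, 0, 2, 1, 3, 3, 1, 3, 1],
  [2, 1, 3, 2, 1, 3, 2, 1, 3, 1],
  [3, 0, 1, 3, 1, 3, 0, 1, 3, 1],
  [1, 3, 3, 2, 1, 3, 3, 0, 2, 1, 3, 1],
  [3, 0, 1, 3, 3, 1],
  [1, 3, 0, 1, 3, 3, 2, 1, 3, 0, 1],
  [1, 3, 3, 2, 1, 3, 3, 0, 1, 3, 1],
  [2, 0, 2, 1, 3, 2, 1, 3, 0, 1, 3, 1],
  [0, 1, 3, 3, 2, 1, 3, 3, 1],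
  [0, 2, 3, 3, 1, 3, 3, 2, 1, 3, 1],
  [0, 1, 3, 2, 1, 3, 0, 1, 3, 0, 1],
  [3, 3, 1, 3, 0, 1, 3, 0, 1],
  [3, 3, 1, 3, 1, 3, 1, 3, 1],
  [3, 2, 1, 3, 1, 3, 3, 2, 1, 3, 3, 1],
  [0, 2, 3, 1, 3, 3, 0, 2, 1, 3, 0, 1],
  [2, 1, 3, 2, 1, 3, 0, 2, 1, 3, 1],
  [1, 3, 1, 3, 1, 3, 1],
  [0, 2, 1, 3, 2, 1, 3, 3, 2, 1, 3, 1],
  [3, 0, 2, 1, 3, 0, 2, 1, 3, 1],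
  [3, 1, 3, 3, 2, 1, 3, 3, 0, 1, 3, 0, 1],
  [3, 3, 0, 1, 3, 3, 2, 1, 3, 3, 1],
  [0, 2, 3, 3, 1, 3, 1, 3, 1],
  [2, 0, 1, 3, 1, 3, 1, 3, 3, 0, 1],
  [1, 3, 0, 1, 3, 0, 1],
  [3, 1, 3, 1, 3, 1, 3, 1],
  [2, 1, 3, 1, 3, 3, 2, 1, 3, 3, 1],
  [3, 3, 0, 2, 1, 3, 0, 2, 1, 3, 1],
  [0, 1, 3, 3, 0, 1, 3, 2, 1, 3, 0, 1],
  [2, 3, 0, 1, 3, 3, 1, 3, 0, 1],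
  [0, 2, 3, 3, 2, 1, 3, 1, 3, 1],
  [3, 2, 0, 1, 3, 1, 3, 1, 3, 3, 0, 1],
  [3, 1, 3, 0, 1, 3, 0, 1],
  [2, 3, 2, 1, 3, 1, 3, 1, 3, 1],
  [0, 2, 3, 1, 3, 3, 1, 3, 1, 3, 1],
  [0, 2, 1, 3, 0, 2, 1, 3, 1],
  [1, 3, 3, 2, 1, 3, 3, 0, 1, 3, 0, 1],
  [3, 0, 1, 3, 3, 2, 1, 3, 3, 1],
  [0, 2, 3, 3, 2, 1, 3, 3, 2, 1, 3, 1],
  [3, 0, 1, 3, 2, 1, 3, 0, 1, 3, 0, 1],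
  [2, 3, 2, 1, 3, 0, 1, 3, 0, 1],
  [2, 3, 3, 0, 2, 1, 3, 0, 1],
  [3, 1, 3, 0, 1, 3, 1, 3, 3, 0, 1],
  [3, 1, 0, 2, 1, 3, 3, 1, 3, 1, 3, 0, 1],
  [0, 1, 3, 1, 3, 2, 1, 3, 1],
  [2, 3, 3, 0, 1, 3, 0, 1],
  [3, 0, 1, 3, 0, 1, 3, 1, 3, 3, 0, 1],
  [1, 0, 2, 3, 3, 1, 3, 1, 3, 0, 1],
  [1, 3, 1, 3, 2, 1, 3, 1, 3, 1],
  [3, 2, 2, 0, 2, 3, 1, 3, 1, 3, 1],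
  [2, 3, 1, 3, 1, 3, 0, 1, 3, 0, 1],
  [0, 1, 3, 3, 2, 1, 3, 0, 1, 3, 3, 1],
  [3, 1, 3, 0, 1, 3, 3, 1, 3, 0, 1],
  [2, 2, 0, 2, 3, 1, 3, 1, 3, 0, 1],
  [0, 2, 3, 1, 3, 1, 3, 0, 1, 3, 0, 1],
  [1, 3, 2, 1, 3, 1, 3, 3, 1],
  [0, 1, 3, 0, 1, 3, 3, 1, 3, 0, 1],
  [0, 2, 3, 1, 3, 3, 0, 1, 3, 0, 1],
  [3, 3, 2, 1, 3, 0, 1, 3, 1],
  [2, 1, 3, 2, 1, 3, 1, 3, 1],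
  [3, 1, 3, 3, 0, 1, 3, 3, 0, 1],
  [3, 0, 2, 1, 3, 0, 1, 3, 1],
  [2, 1, 3, 0, 1, 3, 1],
  [3, 3, 2, 1, 3, 2, 1, 3, 1, 3, 1],
  [3, 1, 3, 2, 1, 3, 1, 3, 1, 3, 1],
  [0, 2, 1, 3, 0, 1, 3, 1, 3, 0, 1],
  [3, 0, 1, 3, 1, 3, 0, 2, 1, 3, 1],
  [3, 0, 1, 3, 3, 0, 1, 3, 3, 0, 1],
  [3, 3, 0, 2, 1, 3, 2, 1, 3, 1, 3, 1],
  [1, 3, 1, 3, 0, 2, 1, 3, 1],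
  [3, 2, 1, 3, 0, 1, 3, 1, 3, 0, 1],
  [2, 3, 0, 2, 1, 0, 2, 3, 1, 3, 1],
  [0, 2, 1, 3, 2, 1, 3, 1, 3, 1],
  [2, 3, 3, 0, 2, 1, 3, 1],
  [1, 3, 0, 1, 3, 1, 3, 3, 0, 1],
  [1, 0, 2, 1, 3, 3, 1, 3, 1, 3, 0, 1],
  [1, 3, 1, 3, 2, 1, 3, 1],
  [2, 3, 3, 0, 1, 3, 1],
  [0, 1, 3, 0, 1, 3, 1, 3, 3, 0, 1],
  [3, 1, 0, 2, 3, 3, 1, 3, 1, 3, 0, 1],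
  [1, 3, 3, 1, 3, 0, 1, 3, 3, 1],
  [2, 2, 0, 2, 3, 1, 3, 1, 3, 3, 1],
  [0, 2, 1, 3, 3, 2, 1, 3, 0, 1, 3, 0, 1],
  [0, 1, 3, 2, 1, 3, 1, 3, 3, 1],
  [3, 0, 1, 3, 0, 1, 3, 3, 1, 3, 0, 1],
  [2, 2, 0, 2, 3, 1, 3, 1, 3, 1],
  [2, 1, 3, 3, 2, 1, 3, 0, 1, 3, 0, 1],
  [1, 3, 3, 2, 1, 3, 0, 1, 3, 3, 1],
  [1, 3, 0, 1, 3, 3, 1, 3, 0, 1],
  [3, 1, 3, 1, 3, 0, 2, 1, 3, 1],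
  [0, 1, 3, 1, 3, 0, 2, 1, 3, 1],
  [0, 1, 3, 3, 0, 1, 3, 3, 0, 1],
  [3, 0, 2, 1, 3, 2, 1, 3, 1, 3, 1],
  [1, 3, 1, 0, 2, 3, 1, 3, 3, 1],
  [2, 1, 3, 0, 1, 3, 1, 3, 0, 1],
  [0, 1, 3, 2, 1, 3, 1, 3, 1, 3, 1],
  [2, 1, 3, 1, 3, 3, 1, 3, 3, 1],
  [0, 2, 1, 3, 0, 1, 3, 1],
  [2, 3, 1, 3, 3, 0, 1, 3, 0, 1],
  [3, 2, 1, 3, 2, 1, 3, 1, 3, 1],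
  [1, 3, 2, 1, 3, 1, 3, 1, 3, 1],
  [3, 3, 0, 2, 1, 3, 0, 1, 3, 1],
  [3, 2, 1, 3, 0, 1, 3, 1],
  [0, 2, 1, 3, 1, 3, 3, 1, 3, 3, 1],
  [1, 3, 3, 0, 1, 3, 3, 0, 1],
  [3, 1, 3, 2, 1, 3, 0, 1, 3, 0, 1],
  [2, 1, 3, 0, 2, 1, 3, 1],
  [0, 1, 3, 0, 1, 3, 3, 2, 1, 3, 0, 1],
  [0, 2, 1, 3, 2, 1, 3, 2, 1, 3, 1],
  [2, 3, 0, 1, 3, 2, 1, 3, 0, 1],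
  [2, 3, 1, 3, 1, 3, 0, 2, 1, 3, 0, 1],
  [3, 1, 3, 3, 1],
  [3, 3, 2, 1, 3, 3, 1, 3, 1],
  [3, 0, 1, 3, 0, 1, 3, 0, 1],
  [1, 3, 3, 0, 1, 3, 2, 1, 3, 0, 1],
  [2, 3, 2, 1, 3, 3, 1],
  [2, 1, 3, 3, 1, 3, 1],
  [2, 1, 3, 1, 3, 3, 1, 3, 0, 1, 3, 1],
  [3, 3, 2, 1, 3, 0, 2, 1, 3, 1],
  [2, 3, 3, 2, 1, 3, 1, 3, 1, 3, 3, 1],
  [3, 0, 1, 3, 2, 1, 3, 2, 1, 3, 1],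
  [1, 3, 1, 3, 0, 1, 3, 1],
  [2, 3, 0, 1, 3, 3, 1, 3, 1, 3, 0, 1],
  [2, 1, 0, 2, 3, 0, 2, 1, 3, 1, 3, 1],
  [2, 3, 3, 1, 3, 3, 2, 1, 3, 1],
  [2, 0, 1, 3, 3, 0, 1, 3, 1, 3, 1],
  [3, 3, 1, 0, 2, 3, 1, 3, 1, 3, 0, 1],
  [1, 3, 1, 3, 3, 1, 3, 1],
  [1, 3, 3, 2, 1, 3, 3, 1],
  [3, 3, 1, 3, 1, 3, 0, 1, 3, 1],
  [0, 1, 3, 1, 3, 3, 0, 1, 3, 1],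
  [2, 1, 3, 2, 1, 3, 3, 2, 1, 3, 1],
  [2, 3, 3, 1, 3, 1, 3, 1],
  [2, 3, 1, 3, 2, 0, 1, 3, 1, 3, 0, 1],
  [1, 0, 2, 3, 1, 3, 1, 3, 0, 1],
  [0, 1, 3, 1, 3, 1, 3, 1],
  [3, 3, 1, 3, 3, 2, 1, 3, 3, 1],
  [2, 0, 1, 3, 3, 1, 3, 3, 2, 1, 3, 1],
  [2, 0, 2, 0, 1, 3, 1, 3, 1, 3, 1],
  [3, 1, 3, 1, 3, 3, 1, 3, 1],
  [3, 1, 3, 3, 2, 1, 3, 3, 1],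
  [3, 1, 3, 1, 3, 0, 1, 3, 1],
  [2, 0, 1, 3, 3, 1, 3, 3, 1, 3, 1],
  [2, 3, 1, 3, 3, 1, 3, 1, 3, 1],
  [2, 3, 3, 2, 1, 3, 3, 2, 1, 3, 1],
  [2, 3, 2, 1, 3, 1, 3, 0, 1, 3, 1],
  [3, 0, 1, 3, 1, 3, 3, 0, 1, 3, 1],
  [3, 2, 1, 3, 2, 1, 3, 3, 2, 1, 3, 1],
  [2, 3, 3, 2, 1, 3, 1, 3, 1],
  [1, 0, 2, 3, 3, 0, 1, 3, 1, 3, 1],
  [3, 1, 0, 2, 3, 1, 3, 1, 3, 0, 1],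
  [3, 0, 1, 3, 1, 3, 1, 3, 1],
  [0, 2, 3, 0, 1, 3, 3, 1, 3, 0, 1],
  [3, 3, 0, 1, 3, 0, 1, 3, 0, 1],
  [2, 3, 0, 1, 3, 3, 1, 3, 1, 3, 1],
  [1, 3, 3, 1],
  [3, 2, 1, 3, 3, 1, 3, 1],
  [1, 3, 2, 1, 3, 0, 1, 3, 0, 1],
  [2, 3, 1, 3, 3, 0, 2, 1, 3, 0, 1],
  [2, 1, 3, 3, 0, 1, 3, 3, 1, 3, 0, 1],
  [3, 3, 0, 1, 3, 2, 1, 3, 2, 1, 3, 1],
  [0, 1, 3, 0, 1, 3, 0, 1],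
  [2, 1, 3, 3, 1, 0, 2, 3, 1, 3, 3, 1],
  [3, 3, 1, 3, 3, 1],
  [2, 3, 1, 3, 2, 1, 3, 3, 1],
  [3, 3, 1, 3, 2, 1, 3, 0, 1, 3, 0, 1],
  [3, 2, 1, 3, 0, 2, 1, 3, 1],
  [2, 3, 3, 1, 3, 1, 3, 1, 3, 3, 1],
  [0, 1, 3, 2, 1, 3, 2, 1, 3, 1],
  [0, 2, 1, 3, 1],
  [3, 1, 3, 3, 2, 0, 1, 3, 1, 3, 3, 0, 1],
  [0, 2, 1, 3, 3, 0, 2, 1, 3, 1, 3, 1],
  [3, 1, 3, 3, 2, 1, 3, 2, 1, 3, 1],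
  [3, 1, 3, 3, 1, 3, 3, 0, 1, 3, 1],
  [2, 3, 3, 1, 3, 0, 2, 1, 3, 1],
  [1, 3, 1, 3, 1, 3, 3, 1],
  [0, 1, 3, 3, 1, 3, 0, 1, 3, 1],
  [3, 3, 0, 2, 1, 3, 1, 3, 1],
  [2, 3, 2, 1, 3, 3, 0, 1, 3, 0, 1],
  [2, 3, 3, 1, 3, 2, 1, 3, 1, 3, 1],
  [3, 1, 3, 0, 1, 3, 3, 0, 1],
  [0, 1, 3, 1, 3, 3, 1, 3, 3, 1],
  [2, 1, 3, 2, 0, 1, 3, 2, 1, 3, 0, 1],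
  [1, 3, 2, 1, 3, 2, 1, 3, 3, 1],
  [2, 1, 3, 3, 2, 1, 3, 1],
  [0, 2, 1, 3, 3, 2, 1, 3, 1],
  [3, 2, 1, 3, 1, 3, 0, 1, 3, 0, 1],
  [3, 1, 3, 1, 3, 0, 1, 3, 3, 1],
  [1, 3, 0, 1, 3, 0, 1, 3, 1, 3, 1],
  [3, 2, 0, 1, 3, 2, 1, 3, 0, 1],
  [0, 1, 3, 2, 1, 3, 2, 1, 3, 3, 1],
  [3, 3, 2, 1, 3, 1],
  [2, 3, 3, 1, 3, 3, 1, 3, 1],
  [2, 1, 3, 3, 0, 2, 1, 3, 1, 3, 1],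
  [1, 3, 3, 1, 3, 0, 1, 3, 1],
  [3, 0, 1, 3, 3, 0, 1, 3, 0, 1],
  [2, 1, 3, 1, 3, 0, 1, 3, 3, 0, 1],
  [0, 1, 3, 1, 3, 1, 3, 3, 1],
  [3, 2, 0, 1, 3, 3, 1, 3, 1, 3, 0, 1],
  [1, 3, 3, 1, 3, 3, 1, 3, 1],
  [2, 1, 3, 1, 3, 1],
  [3, 3, 0, 2, 1, 3, 1],
  [1, 0, 2, 3, 3, 2, 0, 1, 3, 1, 3, 1],
  [3, 0, 2, 1, 3, 1, 3, 0, 2, 1, 3, 1],
  [2, 1, 3, 3, 2, 1, 3, 2, 1, 3, 1],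
  [3, 0, 1, 3, 1, 3, 0, 1, 3, 3, 1],
  [0, 2, 3, 3, 1, 3, 3, 1, 3, 1],
  [3, 3, 1, 3, 1, 3, 1, 3, 3, 1],
  [0, 1, 3, 0, 1, 3, 1, 3, 0, 1],
  [0, 2, 1, 3, 1, 3, 1],
  [3, 1, 3, 3, 0, 1, 3, 0, 1],
  [0, 1, 3, 3, 2, 1, 3, 0, 1, 3, 0, 1],
  [2, 3, 2, 1, 3, 0, 1, 3, 3, 0, 1],
  [0, 2, 1, 3, 1, 3, 0, 1, 3, 3, 0, 1],
  [0, 1, 3, 3, 1, 3, 3, 1, 3, 1],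
  [3, 1, 3, 3, 1, 3, 1, 3, 1],
  [3, 3, 2, 1, 3, 3, 2, 1, 3, 1],
  [2, 3, 0, 1, 3, 2, 1, 3, 3, 1],
  [3, 0, 1, 3, 3, 1, 3, 1, 3, 1],
  [2, 1, 3, 1],
  [2, 3, 3, 1, 3, 2, 1, 3, 3, 1],
  [2, 0, 2, 3, 1, 3, 1, 3, 1],
  [1, 3, 3, 2, 1, 3, 0, 1, 3, 0, 1],
  [2, 1, 3, 1, 3, 0, 1, 3, 3, 1],
  [2, 1, 3, 3, 0, 1, 3, 3, 2, 1, 3, 0, 1],
  [3, 2, 1, 3, 1, 3, 0, 1, 3, 1],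
  [3, 1, 3, 0, 2, 1, 3, 1, 3, 3, 0, 1],
  [2, 3, 3, 1, 3, 3, 1, 3, 1, 3, 1],
  [3, 3, 2, 1, 3, 1, 3, 1],
  [3, 2, 1, 3, 1, 3, 0, 2, 1, 3, 1],
  [1, 3, 0, 1, 3, 1, 3, 0, 1],
  [2, 3, 2, 0, 1, 3, 3, 0, 1, 3, 0, 1],
  [1, 3, 1, 3, 3, 1, 3, 3, 1],
  [0, 1, 3, 1],
  [1, 3, 1, 3, 0, 2, 1, 3, 0, 1, 3, 1],
  [3, 3, 1, 3, 0, 1, 3, 3, 1, 3, 3, 0, 1],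
  [3, 2, 1, 0, 2, 3, 3, 1, 3, 1, 3, 1],
  [3, 3, 0, 1, 3, 2, 1, 3, 3, 1],
  [2, 3, 1, 3, 0, 1, 3, 0, 1, 3, 0, 1],
  [3, 1, 3, 1],
  [2, 3, 2, 1, 3, 2, 1, 3, 3, 1],
  [3, 0, 2, 1, 3, 0, 1, 3, 3, 0, 1],
  [2, 3, 3, 1, 3, 0, 1, 3, 1],
  [2, 1, 3, 0, 1, 3, 3, 0, 1, 3, 0, 1],
  [3, 3, 2, 1, 3, 0, 1, 3, 3, 0, 1],
  [1, 3, 3, 1, 3, 0, 2, 1, 3, 1],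
  [3, 3, 0, 2, 0, 1, 3, 1, 3, 1, 3, 1],
  [0, 2, 1, 0, 2, 3, 1, 3, 1, 3, 0, 1],
  [2, 3, 3, 2, 1, 3, 1, 3, 3, 1],
  [0, 2, 1, 3, 3, 2, 1, 3, 3, 1],
  [2, 1, 3, 2, 1, 3, 1, 3, 0, 1, 3, 0, 1],
  [2, 1, 3, 1, 3, 1, 3, 0, 1, 3, 3, 1],
  [2, 3, 0, 1, 3, 0, 1, 3, 1, 3, 1],
  [0, 2, 1, 3, 1, 3, 3, 1, 3, 1],
  [2, 3, 2, 1, 3, 3, 0, 2, 1, 3, 0, 1],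
  [1, 3, 3, 2, 1, 3, 1, 3, 3, 1],
  [1, 3, 0, 1, 3, 1, 3, 3, 1, 3, 0, 1],
  [3, 3, 1, 3, 2, 1, 3, 3, 0, 1, 3, 1],
  [1, 3, 2, 1, 3, 3, 0, 1, 3, 0, 1],
  [1, 3, 3, 1, 3, 2, 1, 3, 1, 3, 1],
  [1, 0, 2, 3, 3, 2, 1, 3, 1, 3, 0, 1],
  [1, 3, 2, 1, 3, 3, 0, 2, 1, 3, 0, 1],
  [0, 2, 1, 3, 2, 1, 3, 1, 3, 3, 1],
  [3, 3, 1, 3, 3, 1, 3, 2, 1, 3, 1],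
  [2, 3, 1, 3, 1, 3, 3, 1],
  [0, 1, 3, 3, 1, 3, 3, 2, 1, 3, 1],
  [0, 2, 0, 1, 3, 1, 3, 1, 3, 1],
  [3, 2, 0, 1, 3, 1, 3, 1, 3, 1],
  [2, 3, 3, 2, 1, 3, 3, 2, 1, 3, 3, 1],
  [2, 3, 0, 2, 1, 3, 1, 3, 1],
  [2, 3, 3, 1, 3, 3, 0, 1, 3, 0, 1],
  [3, 1, 3, 3, 1, 3, 3, 2, 1, 3, 1],
  [2, 1, 3, 0, 1, 3, 3, 0, 1],
  [0, 1, 3, 2, 1, 3, 3, 1],
  [1, 3, 3, 1, 0, 2, 3, 1, 3, 3, 1],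
  [2, 3, 2, 1, 3, 1],
  [3, 1, 3, 2, 1, 3, 3, 1],
  [3, 3, 0, 1, 3, 1],
  [1, 3, 0, 1, 3, 2, 0, 1, 3, 1, 3, 1],
  [1, 3, 0, 1, 3, 3, 1, 3, 3, 0, 1],
  [3, 2, 1, 3, 1, 3, 2, 1, 3, 1, 3, 1],
  [1, 3, 2, 1, 3, 3, 0, 1, 3, 1],
  [2, 3, 1, 3, 0, 1, 3, 1, 3, 0, 1],
  [2, 0, 1, 3, 3, 0, 1, 3, 0, 1],
  [2, 1, 3, 2, 1, 3, 0, 1, 3, 3, 1],
  [1, 3, 3, 0, 1, 3, 1, 3, 3, 0, 1],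
  [3, 1, 3, 0, 1, 3, 2, 1, 3, 0, 1],
  [1, 3, 3, 1, 3, 2, 1, 3, 1],
  [3, 2, 1, 3, 3, 2, 1, 3, 3, 1],
  [2, 0, 2, 3, 1, 3, 1, 3, 3, 1],
  [3, 1, 3, 1, 3, 2, 0, 1, 3, 1, 3, 0, 1],
  [0, 1, 3, 0, 1, 3, 2, 1, 3, 0, 1],
  [1, 0, 2, 3, 1, 3, 2, 1, 3, 3, 0, 1],
  [2, 1, 3, 3, 1, 3, 3, 0, 1, 3, 1],
  [3, 1, 3, 3, 0, 2, 1, 3, 0, 1],
  [1, 3, 3, 0, 1, 3, 3, 1, 3, 0, 1],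
  [2, 1, 3, 1, 3, 3, 0, 1, 3, 3, 1],
  [3, 0, 2, 1, 3, 1],
  [2, 3, 1, 3, 0, 1, 3, 1, 3, 3, 0, 1],
  [0, 2, 1, 3, 1, 3, 0, 2, 1, 3, 1],
  [2, 0, 1, 3, 1, 3, 2, 1, 3, 1],
  [0, 1, 3, 1, 3, 0, 1, 3, 3, 1],
  [2, 3, 3, 2, 1, 3, 0, 2, 1, 3, 1],
  [3, 1, 3, 1, 3, 1, 3, 3, 1],
  [3, 0, 1, 3, 3, 1, 3, 0, 1, 3, 1],
  [2, 3, 3, 1, 3, 1, 3, 0, 1, 3, 1],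
  [2, 0, 1, 3, 1, 3, 3, 0, 1, 3, 1],
  [1, 3, 3, 1, 3, 1, 3, 1],
  [3, 2, 1, 3, 3, 2, 1, 3, 1],
  [2, 3, 0, 2, 1, 3, 0, 1, 3, 1],
  [1, 3, 3, 0, 1, 3, 0, 1],
  [2, 3, 3, 2, 1, 3, 2, 1, 3, 1, 3, 1],
  [3, 3, 1, 3, 0, 1, 3, 3, 0, 1],
  [2, 1, 3, 1, 3, 0, 1, 3, 1],
  [1, 3, 0, 2, 1, 3, 1, 3, 3, 0, 1],
  [3, 1, 3, 3, 1, 3, 3, 1, 3, 1],
  [3, 2, 1, 3, 1, 3, 1],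
  [2, 1, 3, 1, 3, 0, 2, 1, 3, 1],
  [3, 1, 3, 3, 1, 3, 0, 1, 3, 1],
  [3, 3, 0, 1, 3, 3, 0, 1, 3, 0, 1],
  [2, 0, 2, 1, 3, 2, 1, 3, 1, 3, 1],
  [3, 0, 2, 1, 3, 3, 2, 1, 3, 1],
  [3, 3, 2, 1, 3, 1, 3, 0, 1, 3, 0, 1],
  [0, 1, 3, 3, 1, 3, 3, 0, 1, 3, 1],
  [2, 3, 1, 3, 0, 1, 3, 3, 1, 3, 0, 1],
  [3, 3, 2, 0, 1, 3, 2, 1, 3, 0, 1],
  [0, 1, 3, 3, 1, 3, 1, 3, 1],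
  [2, 3, 1, 3, 3, 1],
  [2, 3, 3, 2, 1, 3, 3, 1, 3, 1],
  [0, 2, 3, 1, 3, 3, 1],
  [1, 3, 3, 2, 0, 1, 3, 1, 3, 3, 0, 1],
  [0, 2, 1, 3, 3, 1, 3, 0, 1, 3, 0, 1],
  [1, 3, 3, 2, 1, 3, 2, 1, 3, 1],
  [1, 3, 3, 1, 3, 3, 0, 1, 3, 1],
  [0, 2, 3, 3, 2, 1, 3, 3, 1, 3, 1],
  [2, 3, 2, 1, 3, 1, 3, 1, 3, 3, 1],
  [1, 3, 1, 3, 3, 0, 1, 3, 3, 1],
  [1, 0, 2, 3, 1, 3, 3, 1, 3, 3, 0, 1],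
  [3, 0, 1, 3, 3, 1, 3, 3, 1, 3, 1],
  [3, 3, 1, 3, 3, 1, 3, 1, 3, 1],
  [2, 3, 1, 3, 1, 3, 1],
  [3, 0, 2, 1, 3, 1, 3, 1],
  [3, 3, 1, 3, 3, 0, 1, 3, 0, 1],
  [0, 2, 1, 3, 1, 3, 0, 1, 3, 0, 1],
  [1, 3, 0, 1, 3, 3, 0, 1],
  [2, 1, 3, 3, 1, 3, 0, 1, 3, 0, 1],
  [3, 1, 3, 0, 1, 3, 1, 3, 0, 1],
  [0, 1, 3, 3, 0, 1, 3, 0, 1],
  [1, 3, 2, 1, 3, 0, 1, 3, 3, 1],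
  [3, 3, 2, 1, 3, 1, 3, 0, 1, 3, 1],
  [2, 0, 1, 3, 3, 1, 3, 1, 3, 0, 1],
  [1, 3, 0, 2, 1, 3, 3, 1, 3, 0, 1],
  [2, 3, 1, 3, 3, 2, 1, 3, 1],
  [2, 0, 1, 3, 2, 1, 3, 0, 1],
  [2, 1, 3, 1, 3, 0, 2, 1, 3, 0, 1],
  [3, 2, 1, 3, 1],
  [2, 3, 3, 2, 1, 3, 2, 1, 3, 3, 1],
  [0, 2, 3, 1, 3, 1, 3, 1],
  [2, 1, 3, 1, 3, 0, 1, 3, 0, 1],
  [1, 3, 1, 3, 0, 1, 3, 3, 1],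
  [1, 3, 3, 0, 1, 3, 3, 2, 1, 3, 0, 1],
  [0, 1, 3, 3, 1, 3, 2, 1, 3, 1],
  [1, 3, 3, 0, 2, 1, 3, 0, 1],
  [1, 3, 2, 1, 3, 1, 3, 2, 1, 3, 1],
  [2, 0, 2, 1, 3, 2, 1, 3, 2, 1, 3, 1],
  [3, 0, 2, 1, 3, 3, 2, 1, 3, 3, 1],
  [1, 3, 1, 3, 2, 0, 1, 3, 1, 3, 0, 1],
  [2, 1, 3, 2, 1, 3, 1, 3, 3, 1],
  [0, 1, 3, 2, 1, 3, 3, 0, 1, 3, 0, 1],
  [2, 0, 2, 1, 3, 0, 1, 3, 1, 3, 0, 1],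
  [3, 1, 3, 2, 1, 3, 3, 0, 1, 3, 0, 1],
  [2, 3, 0, 1, 3, 3, 0, 1, 3, 3, 0, 1],
  [3, 1, 0, 2, 3, 3, 2, 1, 3, 1, 3, 0, 1],
  [1, 3, 1, 3, 1, 3, 0, 2, 1, 3, 0, 1],
  [1, 3, 0, 1, 3, 2, 1, 3, 0, 1],
  [2, 1, 3, 1, 3, 3, 1, 3, 1],
  [2, 1, 3, 3, 2, 1, 3, 3, 1],
  [2, 0, 2, 3, 1, 3, 3, 0, 1, 3, 0, 1],
  [2, 3, 3, 2, 1, 3, 0, 1, 3, 1],
  [1, 3, 3, 1, 3, 3, 2, 1, 3, 1],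
  [0, 2, 3, 0, 2, 1, 3, 1, 3, 1],
  [3, 1, 3, 3, 1, 3, 0, 2, 1, 3, 1],
  [2, 1, 0, 2, 3, 1, 3, 1, 3, 0, 1],
  [2, 0, 1, 3, 1, 3, 1, 3, 1],
  [2, 3, 3, 1, 3, 3, 2, 1, 3, 3, 1],
  [2, 3, 0, 1, 3, 0, 1, 3, 0, 1],
  [2, 1, 3, 3, 0, 1, 3, 2, 1, 3, 0, 1],
  [3, 3, 1, 3, 1],
  [1, 3, 2, 1, 3, 3, 1],
  [3, 0, 1, 3, 1],
  [1, 0, 2, 3, 3, 0, 2, 1, 3, 1, 3, 0, 1],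
  [2, 1, 0, 2, 3, 3, 1, 3, 1, 3, 0, 1],
  [2, 1, 3, 1, 3, 2, 1, 3, 1, 3, 1],
  [0, 1, 3, 3, 2, 1, 3, 1, 3, 3, 1],
  [3, 3, 1, 3, 0, 1, 3, 2, 1, 3, 0, 1],
  [3, 1, 3, 3, 1, 3, 2, 1, 3, 1],
  [3, 3, 2, 1, 3, 3, 2, 1, 3, 3, 1],
  [3, 1, 3, 2, 1, 3, 3, 0, 1, 3, 1],
  [2, 1, 3, 3, 2, 0, 1, 3, 1, 3, 0, 1],
  [3, 2, 0, 1, 3, 3, 0, 1, 3, 0, 1],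
  [2, 3, 1, 3, 1, 3, 0, 1, 3, 3, 0, 1],
  [0, 2, 3, 1, 3, 1, 3, 3, 1],
  [1, 0, 2, 1, 3, 3, 2, 1, 3, 1, 3, 0, 1],
  [3, 0, 1, 3, 0, 1, 3, 2, 1, 3, 0, 1],
  [0, 2, 3, 1, 3, 0, 1, 3, 1, 3, 0, 1],
  [1, 3, 3, 1, 0, 2, 1, 3, 1, 3, 1],
  [3, 3, 1, 3, 3, 0, 2, 1, 3, 0, 1],
  [3, 1, 3, 3, 0, 1, 3, 3, 1, 3, 0, 1],
  [0, 1, 3, 2, 1, 3, 3, 0, 1, 3, 1],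
  [3, 0, 1, 3, 2, 1, 3, 3, 1],
  [2, 3, 0, 1, 3, 0, 1, 3, 1, 3, 3, 1],
  [1, 3, 1],
  [3, 3, 1, 3, 2, 1, 3, 3, 1],
  [2, 3, 0, 1, 3, 0, 1],
  [0, 1, 3, 0, 1, 3, 3, 1, 3, 3, 0, 1],
  [3, 1, 3, 0, 1, 3, 3, 1, 3, 3, 0, 1],
  [2, 1, 0, 2, 3, 3, 1, 3, 1, 3, 1],
  [0, 2, 1, 3, 0, 1, 3, 3, 0, 1],
  [2, 3, 3, 2, 1, 3, 3, 0, 1, 3, 0, 1],
  [0, 1, 3, 3, 1, 3, 0, 2, 1, 3, 1],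
  [3, 2, 1, 3, 0, 1, 3, 3, 0, 1],
  [2, 1, 3, 2, 0, 1, 3, 1, 3, 0, 1],
  [3, 0, 2, 0, 1, 3, 1, 3, 1, 3, 1],
  [3, 3, 2, 0, 1, 3, 1, 3, 1, 3, 1],
  [2, 3, 3, 1, 3, 1, 3, 3, 1],
  [1],
  [3, 3, 1, 3, 2, 1, 3, 3, 1, 3, 1],
  [3, 0, 2, 1, 3, 1, 3, 2, 1, 3, 0, 1],
  [0, 2, 3, 0, 1, 3, 2, 1, 3, 1, 3, 1],
  [2, 3, 3, 0, 1, 3, 3, 1, 3, 3, 0, 1],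
  [2, 1, 3, 3, 0, 1, 3, 3, 1],
  [2, 0, 2, 1, 3, 1, 3, 1, 3, 0, 1],
  [2, 3, 1, 3, 3, 0, 1, 3, 1],
  [2, 1, 3, 3, 0, 2, 1, 3, 3, 1, 3, 1],
  [3, 3, 1, 3, 3, 1, 3, 3, 1],
  [3, 3, 0, 1, 3, 1, 3, 0, 1],
  [0, 2, 3, 3, 2, 1, 3, 3, 1, 3, 0, 1],
  [3, 1, 3, 3, 2, 1, 3, 1, 3, 1],
  [2, 2, 1, 0, 2, 3, 1, 3, 2, 1, 3, 1],
  [0, 2, 3, 1, 3, 3, 1, 3, 0, 1],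
  [2, 3, 1, 3, 1, 3, 3, 0, 1, 3, 0, 1],
  [2, 0, 2, 1, 3, 3, 1, 3, 0, 1],
  [2, 3, 0, 1, 3, 1, 3, 2, 1, 3, 0, 1],
  [1, 3, 2, 0, 1, 3, 1, 3, 0, 1, 3, 1],
  [0, 2, 3, 1, 3, 1, 3, 1, 3, 0, 1],
  [2, 3, 0, 1, 3, 1, 3, 1, 3, 0, 1],
  [2, 1, 0, 2, 3, 1, 3, 2, 1, 3, 1],
  [3, 1, 0, 2, 1, 3, 1, 3, 1],
  [3, 1, 3, 1, 3, 3, 0, 1, 3, 0, 1],
  [1, 3, 2, 0, 2, 1, 3, 3, 1, 3, 1],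
  [2, 3, 3, 1, 3, 3, 1, 3, 3, 1],
  [2, 3, 3, 0, 1, 3, 1, 3, 0, 1],
  [3, 1, 3, 3, 0, 2, 1, 3, 1],
  [3, 0, 1, 3, 1, 3, 1, 3, 0, 1],
  [1, 0, 2, 3, 1, 3, 2, 1, 3, 1],
  [2, 3, 3, 0, 2, 1, 3, 2, 1, 3, 0, 1],
  [0, 1, 3, 1, 0, 2, 3, 1, 3, 1],
  [3, 0, 2, 1, 3, 0, 1],
  [2, 1, 3, 0, 1, 3, 1, 3, 3, 0, 1],
  [1, 3, 3, 1, 3, 3, 1, 3, 1, 3, 3, 1],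
  [2, 1, 3, 1, 3, 2, 1, 3, 1],
  [1, 3, 2, 0, 1, 3, 1, 3, 0, 1],
  [1, 3, 3, 1, 3, 0, 2, 1, 3, 0, 1],
  [2, 3, 0, 1, 3, 1, 3, 1, 3, 1],
  [3, 3, 1, 3, 1, 3, 3, 1],
  [0, 1, 3, 2, 1, 3, 0, 1],
  [1, 3, 1, 3, 0, 2, 1, 3, 0, 1],
  [2, 3, 3, 1, 3, 3, 1],
  [3, 3, 2, 1, 3, 2, 1, 3, 3, 1],
  [3, 1, 3, 3, 0, 2, 1, 3, 1, 3, 1],
  [1, 3, 3, 2, 0, 1, 3, 1, 3, 0, 1],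
  [1, 3, 1, 3, 3, 1, 3, 1, 3, 3, 1],
  [3, 1, 3, 1, 3, 0, 1, 3, 3, 0, 1],
  [2, 3, 3, 0, 1, 3, 0, 1, 3, 0, 1],
  [3, 0, 1, 3, 0, 1, 3, 1, 3, 3, 1],
  [2, 1, 3, 3, 1],
  [2, 3, 2, 1, 3, 3, 1, 3, 1],
  [2, 3, 3, 0, 2, 1, 3, 0, 1, 3, 1],
  [2, 3, 2, 1, 3, 0, 1, 3, 1],
  [3, 1, 3, 0, 1, 3, 3, 0, 1, 3, 0, 1],
  [2, 1, 3, 3, 0, 1, 3, 3, 0, 1],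
  [3, 0, 2, 1, 3, 3, 2, 1, 3, 0, 1],
  [3, 1, 3, 2, 1, 3, 1, 3, 0, 1, 3, 0, 1],
  [0, 1, 3, 0, 1, 3, 3, 2, 1, 3, 1],
  [3, 3, 0, 1, 3, 0, 1, 3, 1, 3, 1],
  [2, 3, 1, 3, 1, 3, 0, 1, 3, 1],
  [0, 1, 3, 3, 1, 3, 1, 3, 0, 1],
  [3, 3, 2, 1, 3, 3, 1, 3, 1, 3, 1],
  [3, 1, 3, 3, 2, 1, 3, 1],
  [0, 1, 3, 3, 0, 1],
  [3, 0, 2, 1, 3, 2, 1, 3, 1, 3, 0, 1],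
  [3, 2, 1, 3, 0, 2, 1, 3, 1, 3, 1],
  [3, 3, 1, 3, 2, 1, 3, 0, 1, 3, 1],
  [2, 3, 1, 3, 3, 2, 1, 3, 1, 3, 1],
  [1, 3, 0, 2, 1, 3, 3, 1, 3, 1],
  [3, 3, 0, 2, 1, 3, 2, 1, 3, 0, 1],
  [0, 1, 3, 0, 1, 3, 0, 1, 3, 1],
  [3, 1, 3, 1, 3, 2, 1, 3, 3, 1],
  [3, 2, 1, 3, 2, 1, 3, 1],
  [3, 2, 0, 1, 3, 1, 3, 3, 0, 1],
  [2, 3, 1, 3, 3, 0, 2, 1, 3, 1],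
  [3, 3, 0, 1, 3, 3, 1, 3, 3, 0, 1],
  [1, 3, 3, 0, 1, 3, 3, 1],
  [0, 2, 1, 3, 1, 3, 1, 3, 0, 1],
  [3, 1, 3, 3, 0, 1, 3, 1],
  [0, 2, 1, 3, 3, 1, 3, 0, 1],
  [3, 0, 1, 3, 1, 3, 2, 1, 3, 0, 1],
  [3, 2, 1, 0, 2, 3, 1, 3, 1, 3, 3, 1],
  [0, 2, 1, 3, 3, 0, 1, 3, 1, 3, 1],
  [2, 3, 0, 1, 3, 3, 2, 1, 3, 0, 1],
  [2, 1, 3, 0, 1, 3, 3, 1],
  [3, 1, 3, 1, 3, 3, 0, 2, 1, 3, 0, 1],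
  [2, 3, 3, 2, 1, 3, 3, 0, 1, 3, 1],
  [1, 3, 3, 0, 2, 1, 3, 3, 1, 3, 1],
  [2, 3, 2, 1, 3, 2, 1, 3, 1],
  [2, 3, 2, 0, 1, 3, 1, 3, 3, 0, 1],
  [3, 3, 2, 1, 3, 3, 0, 2, 1, 3, 1],
  [3, 0, 1, 3, 3, 2, 1, 3, 0, 1],
  [1, 3, 0, 1, 3, 3, 1],
  [2, 2, 0, 2, 1, 3, 1, 3, 1, 3, 0, 1],
  [3, 3, 2, 1, 3, 3, 0, 1, 3, 1],
  [0, 1, 3, 3, 1, 3, 2, 1, 3, 0, 1],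
  [1, 3, 3, 0, 2, 1, 3, 0, 2, 1, 3, 1],
  [1, 3, 1, 3, 1, 3, 1, 3, 1],
  [2, 3, 1, 3, 3, 2, 1, 3, 3, 1],
  [3, 2, 0, 2, 1, 3, 3, 2, 1, 3, 1],
  [1, 3, 1, 3, 0, 1, 3, 0, 1],
  [1, 0, 2, 3, 3, 2, 1, 3, 1, 3, 1],
  [2, 1, 3, 0, 1, 3, 3, 1, 3, 0, 1],
  [0, 2, 1, 3, 1, 3, 3, 0, 1],
  [3, 3, 2, 1, 3, 3, 0, 1, 3, 0, 1],
  [2, 3, 2, 1, 3, 2, 1, 3, 1, 3, 1],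
  [2, 1, 3, 2, 1, 3, 1, 3, 1, 3, 1],
  [2, 1, 3, 2, 1, 3, 0, 1, 3, 0, 1],
  [3, 3, 2, 1, 3, 3, 0, 2, 1, 3, 0, 1],
  [3, 2, 1, 3, 1, 3, 1, 3, 3, 1],
  [3, 2, 0, 1, 3, 3, 1, 3, 0, 1, 3, 1],
  [1, 3, 3, 1, 3, 0, 1, 3, 0, 1],
  [3, 2, 1, 3, 3, 1, 3, 0, 1, 3, 1],
  [0, 2, 1, 0, 2, 3, 1, 3, 1],
  [1, 0, 2, 3, 3, 1, 3, 3, 2, 1, 3, 1],
  [3, 2, 0, 2, 1, 3, 1, 3, 3, 1, 3, 1],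
  [2, 3, 2, 1, 3, 0, 2, 1, 3, 1],
  [3, 2, 1, 3, 3, 2, 1, 3, 1, 3, 3, 1],
  [1, 3, 3, 1, 3, 1, 3, 1, 3, 1],
  [1, 3, 0, 2, 1, 3, 0, 2, 1, 3, 1],
  [2, 3, 0, 1, 3, 1, 3, 3, 0, 1, 3, 1],
  [3, 2, 1, 3, 2, 1, 3, 2, 1, 3, 3, 1],
  [3, 1, 3, 1, 3, 1],
  [3, 0, 1, 3, 0, 1],
  [0, 1, 3, 2, 1, 3, 2, 1, 3, 3, 0, 1],
  [1, 3, 3, 0, 1, 3, 3, 2, 1, 3, 3, 1],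
  [1, 0, 2, 3, 3, 1, 3, 1, 3, 1],
  [2, 3, 0, 2, 1, 3, 1],
  [1, 3, 1, 3, 2, 1, 3, 0, 1, 3, 0, 1],
  [2, 0, 2, 1, 3, 1, 3, 0, 2, 1, 3, 1],
  [0, 1, 3, 1, 3, 3, 2, 1, 3, 0, 1],
  [3, 3, 1, 3, 2, 0, 1, 3, 1, 3, 0, 1],
  [2, 1, 3, 0, 1, 3, 2, 1, 3, 0, 1],
  [1, 3, 3, 2, 1, 3, 3, 1, 3, 1],
  [1, 3, 1, 3, 3, 1],
  [3, 3, 0, 1, 3, 2, 1, 3, 0, 1],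
  [1, 3, 0, 1, 3, 0, 1, 3, 0, 1],
  [2, 3, 3, 1, 3, 1],
  [2, 1, 3, 2, 1, 3, 3, 1],
  [1, 3, 3, 2, 1, 3, 0, 2, 1, 3, 1],
  [2, 3, 1, 3, 3, 1, 3, 0, 1, 3, 1],
  [2, 3, 3, 0, 1, 3, 3, 0, 1, 3, 0, 1],
  [0, 2, 1, 3, 2, 1, 3, 3, 1, 3, 0, 1],
  [0, 2, 3, 3, 0, 2, 1, 3, 0, 1, 3, 0, 1],
  [3, 1, 3, 0, 1, 3, 1],
  [2, 1, 3, 3, 1, 3, 3, 2, 1, 3, 1],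
  [2, 0, 2, 3, 0, 2, 1, 3, 1, 3, 1],
  [0, 2, 3, 3, 0, 1, 3, 0, 1, 3, 1],
  [2, 0, 1, 3, 3, 1, 3, 1, 3, 1],
  [3, 3, 2, 1, 3, 3, 1],
  [3, 1, 3, 3, 1, 3, 1],
  [0, 1, 3, 0, 1, 3, 3, 0, 1, 3, 1],
  [1, 3, 3, 1, 3, 1, 3, 0, 1, 3, 1],
  [2, 1, 3, 3, 1, 3, 1, 3, 1],
  [2, 3, 2, 1, 3, 3, 2, 1, 3, 1],
  [0, 2, 3, 1, 3, 1, 3, 0, 1],
  [2, 1, 3, 1, 3, 2, 0, 1, 3, 1, 3, 0, 1],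
  [1, 3, 3, 1, 3, 3, 2, 1, 3, 3, 1],
  [0, 1, 3, 0, 1, 3, 1, 3, 1],
  [3, 3, 1],
  [1, 3, 2, 1, 3, 3, 1, 3, 1],
  [0, 2, 1, 3, 0, 1, 3, 1, 3, 3, 1],
  [1, 3, 3, 0, 1, 3, 0, 1, 3, 0, 1],
  [2, 3, 3, 0, 1, 3, 3, 1, 3, 0, 1],
  [3, 2, 0, 2, 3, 3, 1, 3, 1, 3, 1],
  [2, 1, 3, 1, 3, 3, 0, 2, 1, 3, 0, 1],
  [3, 2, 1, 3, 0, 1, 3, 0, 1],
  [2, 1, 3, 1, 3, 2, 1, 3, 3, 1],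
  [1, 3, 3, 1, 3, 3, 1],
  [0, 1, 3, 1, 3, 0, 1],
  [2, 3, 3, 1, 0, 2, 3, 1, 3, 3, 1],
  [2, 0, 1, 3, 1, 3, 1, 3, 0, 1],
  [0, 1, 3, 3, 1, 3, 3, 1, 3, 3, 0, 1],
  [3, 0, 2, 1, 3, 2, 1, 3, 3, 0, 1],
  [1, 3, 2, 1, 3, 0, 2, 1, 3, 1],
  [1, 3, 1, 3, 1, 3, 3, 1, 3, 1],
  [1, 3, 1, 3, 3, 2, 1, 3, 3, 1],
  [2, 3, 0, 2, 1, 3, 2, 1, 3, 0, 1],
  [2, 3, 2, 1, 3, 1, 3, 3, 0, 1, 3, 0, 1],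
  [2, 0, 2, 3, 1, 3, 2, 1, 3, 0, 1],
  [2, 1, 3, 3, 2, 1, 3, 3, 2, 1, 3, 1],
  [3, 1, 0, 2, 3, 1, 3, 1, 3, 3, 1],
  [1, 3, 1, 3, 1, 3, 0, 1, 3, 1],
  [2, 1, 3, 3, 2, 1, 3, 1, 3, 1],
  [3, 3, 1, 0, 2, 3, 1, 3, 2, 1, 3, 1],
  [2, 1, 3, 2, 1, 3, 1, 3, 0, 1, 3, 1],
  [1, 3, 0, 1, 3, 1, 3, 3, 0, 1, 3, 1],
  [1, 0, 2, 3, 0, 1, 3, 3, 1, 3, 0, 1],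
  [2, 3, 3, 1, 3, 2, 1, 3, 1],
  [0, 2, 3, 3, 0, 1, 3, 1, 3, 1],
  [2, 3, 2, 1, 3, 3, 0, 2, 1, 3, 1],
  [2, 0, 1, 3, 3, 1, 3, 2, 1, 3, 1],
  [2, 1, 3, 3, 0, 2, 1, 3, 0, 1],
  [0, 1, 3, 0, 1, 3, 2, 1, 3, 1],
  [3, 1, 3, 3, 0, 1, 3, 3, 0, 1, 3, 0, 1],
  [3, 3, 0, 2, 1, 3, 1, 3, 3, 0, 1],
  [2, 1, 3, 3, 0, 1, 3, 0, 1],
  [3, 1, 3, 2, 1, 3, 1, 3, 1],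
  [0, 2, 3, 3, 1, 3, 1, 3, 0, 1],
  [0, 2, 3, 1, 3, 1, 3, 3, 0, 1],
  [3, 3, 1, 3, 1, 3, 0, 1, 3, 0, 1],
  [1, 3, 1, 3, 0, 1, 3, 3, 1, 3, 0, 1],
  [0, 2, 3, 1, 3, 0, 1, 3, 1, 3, 3, 1],
  [0, 2, 1, 3, 1, 3, 1, 3, 3, 0, 1],
  [2, 2, 1, 0, 2, 3, 1, 3, 1, 3, 0, 1],
  [0, 1, 3, 1, 3, 3, 1, 3, 0, 1],
  [3, 2, 1, 3, 1, 3, 3, 1],
  [1, 3, 3, 2, 1, 3, 0, 1, 3, 1],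
  [1, 0, 2, 3, 1, 3, 3, 0, 1, 3, 0, 1],
  [1, 3, 1, 3, 3, 0, 1, 3, 3, 0, 1],
  [2, 3, 2, 1, 3, 1, 3, 1],
  [2, 3, 0, 1, 3, 1],
  [1, 3, 0, 2, 1, 3, 0, 1, 3, 1],
  [3, 1, 3, 3, 1, 3, 0, 1, 3, 3, 0, 1],
  [1, 3, 3, 2, 1, 3, 2, 1, 3, 1, 3, 1],
  [3, 3, 1, 3, 3, 1, 3, 0, 1, 3, 0, 1],
  [0, 2, 1, 3, 1, 0, 2, 3, 1, 3, 1],
  [3, 3, 0, 2, 1, 0, 2, 3, 1, 3, 1],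
  [3, 1, 3, 1, 3, 1, 3, 1, 3, 3, 1],
  [2, 0, 1, 3, 1, 3, 0, 1, 3, 3, 1],
  [3, 1, 3, 0, 2, 1, 3, 1],
  [2, 3, 1, 3, 1, 3, 1, 3, 3, 1],
  [2, 3, 0, 1, 3, 3, 1, 3, 0, 1, 3, 1],
  [0, 1, 3, 3, 1, 3, 3, 0, 1],
  [3, 3, 1, 3, 3, 0, 1, 3, 3, 1],
  [0, 1, 3, 2, 0, 1, 3, 1, 3, 1],
  [2, 3, 2, 1, 3, 3, 0, 1, 3, 1],
  [0, 1, 3, 0, 2, 1, 3, 1, 3, 1, 3, 1],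
  [2, 3, 1, 3, 3, 1, 3, 3, 1],
  [2, 3, 0, 1, 3, 1, 3, 0, 1],
  [3, 1, 0, 2, 3, 1, 3, 3, 1],
  [3, 2, 1, 3, 1, 3, 1, 3, 1],
  [1, 3, 2, 1, 3, 2, 1, 3, 1, 3, 1],
  [0, 2, 1, 3, 2, 1, 3, 0, 1],
  [2, 1, 3, 1, 3, 3, 0, 1, 3, 0, 1],
  [3, 3, 0, 1, 3, 3, 0, 1],
  [2, 0, 2, 1, 3, 2, 1, 3, 1, 3, 0, 1],
  [3, 1, 3, 0, 2, 1, 3, 1, 3, 1],
  [1, 3, 2, 1, 3, 0, 1, 3, 1],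
  [0, 2, 1, 3, 3, 1, 3, 1, 3, 0, 1],
  [3, 1, 3, 2, 1, 3, 1],
  [3, 0, 1, 3, 1, 3, 3, 0, 1],
  [2, 1, 3, 3, 0, 2, 1, 3, 1],
  [2, 3, 0, 1, 3, 3, 1, 3, 3, 0, 1],
  [3, 3, 1, 3, 0, 1, 3, 3, 1],
  [0, 1, 3, 1, 3, 1, 3, 3, 0, 1],
  [2, 1, 3, 3, 0, 1, 3, 1],
  [3, 3, 0, 2, 1, 3, 3, 1, 3, 0, 1],
  [2, 0, 1, 3, 1, 3, 2, 1, 3, 0, 1],
  [2, 2, 1, 0, 2, 3, 1, 3, 1, 3, 3, 1],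
  [0, 2, 1, 3, 3, 2, 1, 3, 1, 3, 3, 0, 1],
  [3, 0, 1, 3, 3, 1, 3, 0, 1],
  [3, 3, 2, 1, 3, 0, 1, 3, 3, 1],
  [2, 2, 1, 0, 2, 3, 1, 3, 1, 3, 1],
  [2, 3, 3, 2, 1, 3, 0, 1, 3, 0, 1],
  [0, 2, 1, 3, 0, 1],
  [3, 1, 3, 1, 3, 2, 1, 3, 0, 1, 3, 0, 1],
  [0, 2, 3, 1, 3, 1, 0, 2, 3, 1, 3, 1],
  [3, 0, 1, 3, 1, 3, 3, 2, 1, 3, 0, 1],
  [2, 1, 3, 3, 1, 3, 0, 2, 1, 3, 1],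
  [3, 2, 1, 3, 0, 1, 3, 2, 1, 3, 0, 1],
  [0, 1, 3, 3, 0, 1, 3, 0, 1, 3, 1],
  [3, 1, 3, 1, 3, 3, 1],
  [1, 3, 3, 0, 2, 1, 3, 1, 3, 1],
  [2, 1, 3, 2, 1, 3, 3, 0, 1, 3, 0, 1],
  [2, 1, 3, 3, 1, 3, 2, 1, 3, 1, 3, 1],
  [1, 3, 1, 3, 0, 1, 3, 3, 0, 1],
  [2, 3, 2, 0, 1, 3, 2, 1, 3, 0, 1],
  [3, 1, 3, 0, 1, 3, 0, 1, 3, 0, 1],
  [2, 3, 3, 2, 1, 3, 1],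
  [3, 2, 1, 3, 2, 1, 3, 3, 1],
  [0, 2, 1, 3, 3, 2, 1, 3, 0, 1],
  [1, 3, 2, 1, 3, 1, 3, 0, 1, 3, 0, 1],
  [1, 3, 1, 3, 1, 3, 0, 1, 3, 3, 1],
  [3, 0, 1, 3, 0, 1, 3, 1, 3, 1],
  [2, 0, 1, 3, 1, 3, 1, 3, 3, 1],
  [1, 3, 2, 0, 1, 3, 2, 1, 3, 0, 1],
  [3, 2, 1, 3, 3, 1, 3, 1, 3, 1],
  [1, 3, 3, 2, 1, 3, 1],
  [2, 3, 3, 0, 2, 1, 3, 1, 3, 1],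
  [3, 3, 1, 3, 0, 1, 3, 1],
  [1, 3, 0, 1, 3, 3, 0, 1, 3, 0, 1],
  [2, 3, 1, 3, 0, 1, 3, 3, 0, 1],
  [0, 2, 3, 3, 0, 1, 3, 2, 1, 3, 1],
  [0, 1, 3, 0, 1, 3, 1, 3, 3, 1],
  [2, 3, 1, 3, 1],
  [3, 3, 1, 3, 3, 1, 3, 1],
  [2, 3, 1],
  [3, 1, 3, 2, 1, 3, 3, 1, 3, 1],
  [0, 2, 1, 3, 1, 3, 2, 1, 3, 0, 1],
  [2, 1, 3, 0, 1, 3, 2, 1, 3, 3, 1],
  [2, 3, 3, 0, 1, 3, 3, 2, 1, 3, 0, 1],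
  [2, 3, 1, 3, 0, 1, 3, 3, 1],
  [2, 1, 0, 2, 3, 1, 3, 1, 3, 1],
  [3, 3, 2, 1, 3, 0, 1, 3, 0, 1],
  [1, 3, 3, 2, 1, 3, 1, 3, 1],
  [0, 2, 1, 3, 2, 1, 3, 2, 1, 3, 0, 1],
  [1, 3, 2, 1, 3, 1, 3, 0, 1, 3, 1],
  [3, 1, 3, 2, 1, 3, 0, 2, 1, 3, 1],
  [3, 2, 1, 3, 1, 3, 2, 1, 3, 3, 1],
  [3, 1, 3, 3, 1, 3, 3, 1],
  [3, 0, 1, 3, 1, 3, 0, 1],
  [0, 2, 3, 3, 1, 3, 3, 1, 3, 0, 1],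
  [0, 2, 1, 3, 3, 1, 3, 3, 1, 3, 0, 1],
  [2, 3, 3, 2, 1, 3, 2, 1, 3, 1],
  [0, 2, 3, 3, 2, 0, 1, 3, 1, 3, 1],
  [1, 3, 3, 0, 2, 1, 3, 1],
  [0, 1, 3, 1, 3, 1, 3, 0, 1],
  [1, 3, 3, 1, 3, 1, 3, 1, 3, 3, 1],
  [2, 3, 3, 1, 0, 2, 1, 3, 1, 3, 1],
  [1, 0, 2, 3, 3, 1, 3, 3, 1, 3, 1],
  [3, 1, 3, 1, 3, 1, 3, 3, 1, 3, 1],
  [3, 1, 3, 1, 3, 3, 2, 1, 3, 3, 1],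
  [1, 0, 2, 1, 3, 1, 3, 1],
  [1, 3, 1, 3, 3, 0, 1, 3, 0, 1],
  [0, 2, 3, 1, 3, 2, 1, 3, 0, 1],
  [1, 3, 3, 2, 1, 3, 3, 2, 1, 3, 1],
  [0, 1, 3, 3, 0, 1, 3, 3, 1, 3, 1],
  [3, 1, 3, 1, 3, 1, 3, 0, 1, 3, 1],
  [0, 1, 3, 0, 1],
  [3, 1, 3, 0, 2, 1, 3, 0, 1, 3, 1],
  [0, 2, 1, 3, 3, 0, 2, 1, 3, 1, 3, 0, 1],
  [3, 1, 3, 3, 2, 1, 3, 2, 1, 3, 1, 3, 1],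
  [3, 1, 3, 3, 2, 1, 3, 0, 1, 3, 1],
  [1, 3, 3, 0, 1, 3, 2, 1, 3, 3, 1],
  [2, 1, 3, 2, 1, 3, 2, 1, 3, 3, 1],
  [1, 3, 1, 3, 1],
  [1, 3, 0, 2, 1, 3, 0, 1, 3, 3, 0, 1],
  [2, 1, 3, 3, 1, 3, 0, 1, 3, 1],
  [2, 3, 0, 1, 3, 3, 0, 1, 3, 0, 1],
  [0, 1, 3, 1, 3, 3, 1, 3, 1, 3, 0, 1],
  [2, 0, 2, 1, 3, 1, 3, 3, 1, 3, 1],
  [3, 3, 1, 3, 0, 2, 1, 3, 1],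
  [2, 1, 3, 3, 2, 1, 3, 1, 3, 3, 1],
  [0, 1, 3, 3, 2, 1, 3, 3, 2, 1, 3, 0, 1],
  [2, 0, 2, 1, 3, 3, 2, 1, 3, 1],
  [2, 3, 2, 1, 3, 1, 3, 0, 1, 3, 0, 1],
  [2, 3, 1, 3, 1, 3, 0, 1, 3, 3, 1],
  [2, 1, 3, 0, 1, 3, 0, 1, 3, 1, 3, 1],
  [3, 0, 2, 1, 3, 1, 3, 1, 3, 3, 0, 1],
  [1, 0, 2, 1, 3, 1, 3, 3, 1, 3, 1],
  [3, 0, 1, 3, 1, 3, 3, 1, 3, 0, 1],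
  [3, 3, 2, 1, 3, 1, 3, 3, 1],
  [2, 3, 0, 2, 1, 3, 0, 1, 3, 3, 0, 1],
  [3, 2, 1, 3, 3, 0, 1, 3, 0, 1],
  [3, 3, 1, 3, 2, 1, 3, 1, 3, 1],
  [0, 2, 3, 3, 2, 1, 3, 1, 3, 0, 1],
  [2, 3, 1, 3, 3, 1, 3, 3, 0, 1, 3, 1],
  [3, 2, 1, 3, 3, 0, 2, 1, 3, 0, 1],
  [2, 1, 3, 1, 3, 1, 3, 3, 1],
  [2, 0, 1, 3, 3, 1, 3, 0, 1, 3, 1],
  [0, 1, 3, 3, 2, 1, 3, 0, 1],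
  [2, 3, 2, 1, 3, 0, 1, 3, 3, 1],
  [3, 0, 1, 3, 1, 3, 1, 3, 3, 0, 1],
  [3, 2, 1, 3, 3, 0, 1, 3, 1],
  [1, 3, 2, 1, 3, 3, 2, 1, 3, 3, 1],
  [3, 3, 1, 3, 2, 1, 3, 1],
  [3, 3, 0, 1, 3, 1, 3, 3, 0, 1],
  [3, 2, 1, 3, 3, 0, 2, 1, 3, 1],
  [0, 2, 3, 1, 3, 2, 1, 3, 3, 0, 1],
  [0, 1, 3, 1, 3, 2, 1, 3, 0, 1],
  [2, 1, 0, 2, 3, 1, 3, 1, 3, 3, 1],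
  [2, 0, 2, 1, 3, 3, 2, 1, 3, 1, 3, 0, 1],
  [3, 3, 0, 1, 3, 3, 1, 3, 0, 1],
  [2, 3, 1, 3, 3, 0, 1, 3, 3, 1],
  [1, 3, 1, 3, 3, 0, 2, 1, 3, 0, 1],
  [2, 3, 3, 1, 3, 3, 0, 1, 3, 1],
  [3, 3, 2, 1, 3, 1, 3, 1, 3, 1],
  [2, 3, 1, 0, 2, 3, 1, 3, 2, 1, 3, 1],
  [3, 0, 2, 1, 3, 2, 1, 3, 0, 1],
  [3, 2, 1, 3, 1, 3, 3, 0, 1, 3, 0, 1],
  [2, 3, 0, 1, 3, 3, 0, 1],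
  [0, 2, 1, 3, 2, 1, 3, 1, 3, 0, 1],
  [2, 1, 3, 0, 2, 1, 3, 1, 3, 1],
  [3, 1, 3, 2, 1, 3, 0, 1, 3, 1],
  [1, 3, 1, 3, 2, 1, 3, 3, 1],
  [2, 1, 3, 2, 1, 3, 1],
  [2, 0, 1, 3, 1, 3, 3, 0, 1],
  [3, 3, 1, 0, 2, 3, 1, 3, 3, 1],
  [3, 0, 1, 3, 3, 1, 3, 3, 0, 1],
  [2, 2, 0, 2, 3, 3, 1, 3, 1, 3, 1],
  [3, 0, 1, 3, 2, 0, 1, 3, 1, 3, 1],
  [1, 3, 3, 0, 1, 3, 1],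
  [3, 3, 0, 2, 1, 3, 0, 1],
  [0, 1, 3, 3, 0, 1, 3, 2, 1, 3, 1],
  [0, 2, 1, 3, 1, 3, 3, 2, 1, 3, 3, 0, 1],
  [3, 2, 1, 3, 1, 3, 2, 1, 3, 1],
  [3, 1, 3, 2, 0, 1, 3, 1, 3, 0, 1],
  [3, 1, 3, 3, 1, 3, 0, 2, 1, 3, 0, 1],
  [2, 0, 1, 3, 1, 3, 3, 1, 3, 0, 1],
  [2, 3, 2, 1, 3, 1, 3, 3, 1],
  [0, 2, 1, 3, 1, 3, 2, 1, 3, 3, 0, 1],
  [3, 1, 3, 3, 2, 0, 1, 3, 1, 3, 0, 1],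
  [2, 3, 3, 0, 2, 1, 0, 2, 3, 1, 3, 1],
  [3, 3, 1, 3, 1, 3, 0, 1, 3, 3, 0, 1],
  [3, 0, 1, 3, 2, 1, 3, 0, 1],
  [3, 1, 3, 1, 3, 0, 2, 1, 3, 0, 1],
  [2, 3, 3, 2, 1, 3, 3, 1],
  [2, 3, 1, 3, 3, 1, 3, 1],
  [2, 1, 3, 3, 2, 1, 3, 0, 1, 3, 1],
  [3, 0, 1, 3, 3, 1, 3, 1, 3, 0, 1],
  [1, 0, 2, 3, 0, 2, 1, 3, 1, 3, 1],
  [3, 3, 1, 3, 3, 2, 1, 3, 1],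
  [2, 0, 2, 3, 1, 3, 1, 3, 0, 1],
  [1, 3, 1, 3, 3, 1, 3, 0, 2, 1, 3, 1],
  [3, 0, 1, 3, 0, 1, 3, 3, 2, 1, 3, 1],
  [2, 0, 1, 3, 0, 1, 3, 1, 3, 1],
  [2, 3, 3, 0, 1, 3, 2, 1, 3, 0, 1],
  [2, 1, 3, 0, 1, 3, 0, 1, 3, 0, 1],
  [3, 2, 1, 3, 3, 1],
  [1, 3, 3, 1, 3, 1],
  [0, 2, 3, 3, 0, 2, 1, 3, 1, 3, 0, 1],
  [1, 3, 0, 1, 3, 1],
  [2, 3, 1, 3, 2, 1, 3, 1, 3, 1],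
  [2, 0, 2, 3, 3, 1, 3, 1, 3, 0, 1],
  [3, 1],
  [1, 3, 3, 1, 3, 2, 1, 3, 3, 1],
  [2, 0, 2, 1, 3, 1, 3, 3, 0, 1, 3, 1],
  [1, 3, 0, 1, 3, 2, 1, 3, 3, 1],
  [2, 3, 3, 0, 1, 3, 3, 2, 1, 3, 3, 1],
  [2, 0, 2, 3, 3, 1, 3, 1, 3, 1],
  [0, 1, 3, 1, 3, 3, 1, 3, 3, 0, 1],
  [2, 1, 3, 0, 1, 3, 0, 1],
  [1, 3, 2, 1, 3, 0, 1, 3, 3, 0, 1],
  [0, 1, 3, 3, 2, 0, 1, 3, 1, 3, 1],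
  [0, 2, 1, 3, 2, 1, 3, 3, 0, 1],
  [2, 1, 3, 3, 2, 1, 3, 3, 0, 1, 3, 0, 1],
  [2, 1, 3, 3, 1, 3, 1, 3, 3, 1],
  [2, 3, 2, 1, 3, 3, 1, 3, 3, 1],
  [2, 3, 2, 0, 1, 3, 1, 3, 0, 1],
  [2, 3, 3, 1, 3, 0, 2, 1, 3, 0, 1],
  [2, 3, 1, 3, 1, 3, 1, 3, 1],
  [3, 1, 0, 2, 3, 1, 3, 2, 1, 3, 1],
  [2, 3, 3, 0, 2, 1, 3, 0, 2, 1, 3, 1],
  [3, 0, 1, 3, 1, 0, 2, 3, 1, 3, 1],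
  [2, 3, 1, 3, 3, 1, 3, 1, 3, 3, 1],
  [2, 3, 3, 2, 1, 3, 3, 1, 3, 3, 1],
  [2, 3, 3, 2, 0, 1, 3, 1, 3, 0, 1],
  [3, 3, 1, 3, 3, 0, 2, 1, 3, 1],
  [3, 2, 0, 2, 1, 3, 3, 1, 3, 0, 1],
  [2, 0, 1, 3, 1, 3, 3, 2, 1, 3, 1],
  [1, 0, 2, 3, 1, 3, 1, 3, 3, 1],
  [0, 2, 1, 3, 3, 2, 1, 3, 1, 3, 0, 1],
  [2, 3, 3, 1, 3, 1, 3, 1, 3, 1],
  [0, 1, 3, 3, 1, 3, 1, 3, 3, 0, 1],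
  [3, 3, 1, 0, 2, 1, 3, 1, 3, 1],
  [3, 3, 1, 3, 1, 3, 3, 0, 1, 3, 0, 1],
  [0, 1, 3, 3, 1, 3, 3, 2, 1, 3, 0, 1],
  [1, 3, 0, 2, 1, 3, 1],
  [0, 1, 3, 2, 1, 3, 1, 3, 3, 0, 1],
  [3, 1, 3, 3, 1, 3, 1, 3, 1, 3, 1],
  [3, 1, 3, 3, 1, 3, 0, 1, 3, 0, 1],
  [0, 1, 3, 2, 0, 1, 3, 2, 1, 3, 1],
  [3, 0, 2, 1, 0, 2, 3, 1, 3, 1],
  [1, 3, 1, 3, 1, 3, 1, 3, 3, 1],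
  [0, 1, 3, 2, 1, 3, 3, 1, 3, 0, 1],
  [2, 1, 3, 3, 1, 3, 1, 3, 0, 1, 3, 1],
  [1, 3, 2, 1, 3, 3, 2, 1, 3, 1],
  [3, 3, 1, 3, 1, 3, 1],
  [3, 3, 0, 1, 3, 0, 1],
  [2, 1, 3, 0, 2, 1, 3, 0, 1, 3, 1],
  [1, 3, 3, 1, 3, 0, 1, 3, 3, 0, 1],
  [3, 1, 0, 2, 3, 3, 1, 3, 1, 3, 1],
  [3, 0, 2, 1, 3, 1, 3, 3, 0, 1],
  [2, 3, 1, 3, 0, 1, 3, 1],
  [1, 3, 2, 1, 3, 1, 3, 1],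
  [1, 3, 1, 3, 3, 1, 3, 3, 1, 3, 1],
  [1, 3, 1, 3, 3, 1, 3, 0, 1, 3, 1],
  [2, 3, 1, 3, 0, 2, 1, 3, 1],
  [3, 3, 2, 1, 3, 1, 3, 1, 3, 3, 1],
  [1, 3, 3, 0, 1, 3, 3, 0, 1, 3, 0, 1],
  [2, 0, 2, 3, 1, 3, 1, 3, 3, 0, 1],
  [3, 1, 3, 1, 3, 0, 1, 3, 0, 1],
  [3, 1, 0, 2, 3, 3, 2, 1, 3, 1, 3, 1],
  [3, 2, 1, 3, 0, 1, 3, 3, 1, 3, 0, 1],
  [0, 1, 3, 3, 0, 1, 3, 1, 3, 1],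
  [1, 3, 3, 2, 0, 1, 3, 2, 1, 3, 0, 1],
  [3, 1, 3, 1, 3, 1, 3, 1, 3, 1],
  [2, 1, 3, 1, 3, 3, 1],
  [0, 1, 3, 3, 1, 3, 0, 1],
  [3, 2, 1, 3, 0, 1, 3, 3, 1],
  [1, 3, 1, 3, 0, 1, 3, 1, 3, 0, 1],
  [2, 3, 3, 1, 3, 0, 1, 3, 0, 1],
  [3, 0, 2, 1, 3, 3, 1, 3, 0, 1],
  [2, 1, 3, 1, 3, 3, 2, 1, 3, 1],
  [2, 0, 1, 3, 3, 0, 1, 3, 1, 3, 0, 1],
  [0, 2, 3, 1, 3, 1, 3, 1, 3, 3, 0, 1],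
  [3, 1, 3, 3, 0, 2, 1, 3, 3, 1, 3, 1],
  [1, 3, 2, 1, 3, 1],
  [0, 1, 3, 1, 3, 3, 0, 1],
  [2, 3, 1, 3, 0, 2, 1, 3, 0, 1],
  [3, 3, 0, 1, 3, 3, 2, 1, 3, 0, 1],
  [3, 1, 3, 0, 1, 3, 3, 1],
  [1, 0, 2, 3, 1, 3, 1, 3, 1],
  [2, 3, 1, 3, 0, 1, 3, 0, 1],
  [3, 3, 1, 3, 1, 3, 2, 1, 3, 3, 1],
  [3, 3, 2, 1, 3, 2, 1, 3, 1],
  [3, 3, 2, 0, 1, 3, 1, 3, 3, 0, 1],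
  [1, 0, 2, 3, 1, 3, 3, 1],
  [2, 3, 0, 1, 3, 3, 2, 1, 3, 3, 1],
  [3, 1, 3, 3, 0, 1, 3, 3, 1],
  [3, 0, 2, 1, 3, 1, 3, 1, 3, 0, 1],
  [3, 3, 1, 3, 3, 0, 1, 3, 1],
  [2, 1, 3, 1, 3, 1, 3, 1],
  [1, 3, 3, 1, 3, 3, 1, 3, 1, 3, 1],
  [0, 2, 3, 1, 3, 3, 1, 3, 3, 0, 1],
  [3, 0, 1, 3, 0, 1, 3, 0, 1, 3, 1],
  [3, 0, 1, 3, 3, 0, 1],
  [1, 0, 2, 1, 3, 1, 3, 0, 1, 3, 0, 1],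
  [1, 3, 0, 2, 1, 3, 1, 3, 1],
  [1, 3, 3, 1, 3, 3, 0, 1, 3, 0, 1]]

/-- the points of the orbit of the second base point -/
def orb2 : List Nat := [0, 2, 4, 6, 8, 10, 13, 14, 15, 16, 17, 18, 20, 21, 23, 25, 28, 30, 31, 32, 33, 34, 36, 37, 39, 40, 44, 46, 47, 48, 49, 50, 52, 53, 55, 56, 60, 61, 63, 64, 65, 66, 68, 70, 71, 72, 76, 77, 79, 80, 81, 82, 84, 86, 87, 88, 94, 97, 99, 100, 101, 103, 104, 106, 110, 113, 115, 116, 117, 119, 120, 122, 124, 128, 129, 130, 131, 133, 134, 135, 142, 143, 144, 146, 148, 152, 153, 154, 156, 160, 161, 162, 163, 165, 166, 168, 169, 170, 171, 172, 173, 176, 177, 178, 182, 184, 185, 186, 188, 192, 193, 194, 195, 197, 198, 200, 201, 202, 203,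 204, 205, 208, 209, 210, 211, 213, 214, 217, 222, 223, 224, 225, 228, 231, 233, 234, 237, 239, 240, 241, 244, 245, 246, 247, 249, 250, 253, 255, 256, 258, 260, 261, 262, 263, 270, 271, 272, 274, 275, 277, 278, 280, 281, 282, 286, 287, 288, 289, 293, 295, 296, 298, 299, 300, 301, 306, 308, 309, 310, 312, 313, 314, 318, 320, 323, 324, 326, 328, 329, 330, 331, 332, 333, 335, 337, 338, 340, 341, 342, 345, 350, 351, 353, 354, 355, 359, 360, 362, 366, 367, 369, 370, 372, 373, 374, 375, 376, 378, 382, 383, 385, 386, 388, 389, 390, 393, 398, 399, 401, 402, 404, 405, 406, 407, 408, 410, 411, 412, 413, 416, 420, 421, 422, 423, 424, 426, 430, 431, 433, 434, 435, 439, 440, 442, 443,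 444, 445, 447, 449, 450, 452, 453, 454, 457, 462, 464, 468, 469, 470, 471, 472, 474, 478, 479, 481, 482, 484, 485, 486, 489, 492, 495, 496, 497, 499, 500, 502, 504, 505, 506, 510, 511, 513, 514, 516, 517, 518, 519, 520, 522, 526, 527, 529, 530, 531, 535, 536, 538, 539, 540, 541, 543, 545, 546, 547, 551, 552, 554, 558, 560, 564, 565, 566, 567, 568, 570, 574, 575, 577, 578, 580, 581, 582, 585, 587, 589, 590, 594, 595, 596, 598, 600, 601, 602, 606, 607, 609, 610, 611, 612, 614, 615, 620, 623, 624, 625, 628, 629, 630, 631, 632, 634, 638, 639, 641, 642, 643, 644, 646, 648, 649, 650, 654, 655, 657, 658, 661, 664, 665, 666, 670, 672, 675, 676, 678, 680, 681, 682, 683, 684, 685,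 687, 689, 690, 693, 696, 697, 698, 699, 701, 702, 706, 708, 709, 710, 711, 712, 714, 718, 719, 721, 722, 723, 724, 726, 727, 732, 733, 734, 736, 737, 738, 740, 741, 742, 744, 745, 746, 748, 749, 750, 752, 753, 754, 756, 757, 758, 760, 761, 762, 764, 765, 766, 768, 769, 770, 772, 773, 774, 776, 777, 778, 779, 783, 787, 791, 796, 797, 798, 800, 801, 802, 804, 805, 806, 808, 809, 810, 812, 813, 814, 816, 817, 818, 820, 821, 822, 824, 825, 826, 829, 831, 832, 834, 835, 836, 838, 841, 843, 844, 846, 849, 851, 852, 854, 857, 860, 861, 862, 864, 865, 866, 868, 869, 870, 872, 873, 874, 877, 881, 883, 884, 886, 887, 888, 890, 892, 893, 894, 896, 897, 898, 900, 901, 902, 904, 905,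 906, 907, 908, 910, 911, 912, 914, 917, 921, 923, 925, 926, 928, 932, 935, 937, 938, 939, 940, 941, 943, 944, 945, 947, 948, 949, 951, 952, 953, 955, 956, 957, 959, 960, 961, 963, 964, 965, 967, 968, 969, 972, 975, 977, 978, 980, 983, 985, 986, 988, 989, 990, 991, 993, 994, 997, 999, 1000, 1001, 1004, 1005, 1006, 1008, 1011, 1012, 1014, 1015, 1016, 1017, 1020, 1021, 1022, 1023, 1025, 1026, 1029, 1031, 1032, 1033, 1036, 1040, 1041, 1042, 1043, 1044, 1045, 1047, 1048, 1050, 1052, 1053, 1054, 1056, 1061, 1063, 1064, 1065, 1068, 1069, 1070, 1071, 1073, 1074, 1075, 1076, 1078, 1079, 1080, 1081, 1083, 1084, 1085, 1089, 1092, 1096, 1097, 1098, 1099, 1100, 1102, 1103, 1104, 1105,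 1108, 1109, 1110, 1111, 1113, 1114, 1116, 1117, 1118, 1119, 1121, 1122, 1123, 1124, 1125, 1129, 1131, 1132, 1133, 1135, 1136, 1138, 1140, 1141, 1142, 1144, 1148, 1149, 1150, 1151, 1153, 1154, 1155, 1156, 1157, 1161, 1163, 1164, 1166, 1167, 1168, 1169, 1172, 1176, 1177, 1178, 1179, 1181, 1182, 1184, 1185, 1186, 1187, 1188, 1190, 1191, 1192, 1193, 1197, 1199, 1200, 1201, 1204, 1208, 1209, 1210, 1211, 1212, 1213, 1215, 1216, 1218, 1220, 1221, 1222, 1223, 1225, 1226, 1228, 1232, 1233, 1234, 1237, 1239, 1240, 1241, 1244, 1245, 1246, 1249, 1251, 1255, 1256, 1258, 1260, 1261, 1262, 1263, 1264, 1266, 1267, 1271, 1272, 1274, 1276, 1277, 1278, 1279, 1280, 1281, 1284, 1287, 1288,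 1290, 1292, 1297, 1300, 1301, 1302, 1303, 1304, 1305, 1308, 1309, 1310, 1311, 1312, 1314, 1315, 1321, 1324, 1325, 1326, 1329, 1331, 1337, 1339, 1340, 1341, 1344, 1345, 1346, 1349, 1351, 1353, 1354, 1355, 1356, 1358, 1359, 1361, 1362, 1363, 1364, 1365, 1368, 1369, 1370, 1372, 1373, 1374, 1375, 1376, 1377, 1380, 1383, 1384, 1386, 1389, 1392, 1395, 1396, 1397, 1400, 1401, 1402, 1404, 1405, 1406, 1409, 1411, 1415, 1416, 1418, 1419, 1420, 1422, 1424, 1425, 1426, 1427, 1428, 1430, 1431, 1435, 1437, 1438, 1441, 1444, 1445, 1446, 1447, 1448, 1449, 1451, 1452, 1453, 1456, 1457, 1458, 1459, 1460, 1462, 1463, 1465, 1466, 1469, 1471, 1475, 1476, 1478, 1480, 1481, 1482, 1483, 1489,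 1492, 1493, 1494, 1497, 1500, 1501, 1502, 1503, 1504, 1505, 1507, 1508, 1510, 1512, 1516, 1517, 1518, 1519, 1520, 1521, 1525, 1528, 1532, 1533, 1534, 1537, 1539, 1540, 1542, 1543, 1547, 1551, 1552, 1554, 1555, 1556, 1558, 1560, 1561, 1562, 1564, 1565, 1566, 1567, 1568, 1569, 1571, 1572, 1574, 1575, 1577, 1578, 1580, 1581, 1582, 1583, 1584, 1585, 1589, 1591, 1593, 1594, 1597, 1599, 1604, 1605, 1606, 1609, 1611, 1612, 1614, 1616, 1617, 1618, 1619, 1625, 1628, 1629, 1630, 1631, 1632, 1633, 1635, 1636, 1638, 1640, 1643, 1644, 1645, 1648, 1649, 1650, 1652, 1657, 1660, 1661, 1662, 1665, 1667, 1668, 1670, 1671, 1675, 1676, 1678, 1679, 1684, 1685, 1686, 1687, 1688, 1690, 1691,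 1693, 1694, 1695, 1696, 1698, 1699, 1700, 1701, 1704, 1705, 1706, 1709, 1711, 1713, 1714, 1716, 1717, 1718, 1719, 1720, 1721, 1725, 1728, 1729, 1730, 1731, 1737, 1739, 1745, 1747, 1748, 1750, 1752, 1753, 1754]

/-- paths to them, over the factors and one more letter -/
def path2 : List (List Nat) := [[],
  [15],
  [3],
  [2, 15],
  [1, 15],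
  [16, 3],
  [14],
  [15, 14],
  [13],
  [15, 13],
  [12],
  [15, 12],
  [15, 3],
  [8, 3, 14],
  [15, 1, 15],
  [16, 15, 3],
  [6],
  [6, 3],
  [5],
  [4],
  [5, 3],
  [4, 3],
  [8, 15, 6],
  [3, 15],
  [3, 2, 15],
  [3, 16, 3],
  [16, 16, 6],
  [2, 14],
  [2, 13],
  [16, 16, 4],
  [2, 15, 13],
  [2, 12],
  [13, 10, 6],
  [12, 3, 10],
  [2, 15, 3],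
  [14, 11, 7, 4],
  [1, 15, 14],
  [1, 14],
  [1, 13],
  [1, 15, 12],
  [1, 12],
  [1, 15, 13],
  [1, 16, 15, 3],
  [12, 2, 12, 5],
  [10, 14, 5],
  [1, 15, 3],
  [16, 6],
  [16, 6, 3],
  [16, 5],
  [16, 4],
  [16, 4, 3],
  [16, 5, 3],
  [0, 15, 3],
  [16, 3, 15],
  [12, 8, 5],
  [13, 4, 8],
  [14, 2, 15],
  [14, 3],
  [11],
  [4, 15, 6],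
  [16, 14, 3],
  [15, 11],
  [13, 11],
  [2, 7, 12],
  [14, 16, 3],
  [14, 1, 15],
  [16, 12, 11],
  [15, 12, 11],
  [15, 14, 3],
  [14, 11],
  [12, 11],
  [0, 13, 8, 3],
  [13, 2, 15],
  [13, 3],
  [3, 15, 8],
  [12, 3],
  [4, 11, 8, 3],
  [2, 11, 10, 3],
  [15, 12, 3],
  [12, 16, 12, 3],
  [15, 13, 3],
  [4, 8, 14, 3],
  [16, 12, 3],
  [10, 3, 12],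
  [16, 13, 3],
  [13, 1, 15],
  [12, 16, 3],
  [12, 1, 15],
  [15, 6],
  [15, 6, 3],
  [8, 3, 14, 3],
  [3, 16, 11, 3],
  [11, 7, 3],
  [4, 11],
  [6, 15, 6],
  [13, 8, 6],
  [15, 2, 12],
  [3, 12, 10],
  [15, 5],
  [15, 4],
  [10, 15, 6],
  [15, 12, 3, 10],
  [15, 5, 3],
  [15, 4, 3],
  [15, 2, 14],
  [13, 9, 6],
  [1, 14, 8, 3],
  [7, 12, 4],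
  [16, 11, 7, 3],
  [15, 0, 15, 3],
  [7, 2, 15, 3],
  [15, 1, 15, 3],
  [11, 3, 8],
  [11, 10, 6, 3],
  [15, 1, 12],
  [16, 15, 6],
  [14, 8, 4],
  [15, 1, 13],
  [16, 15, 4],
  [16, 15, 5],
  [15, 1, 14],
  [12, 6, 10],
  [14, 9, 4, 3],
  [16, 15, 4, 3],
  [1, 15, 9, 7],
  [8, 15, 7, 4],
  [6, 2, 15, 4],
  [0, 15, 9, 3],
  [15, 10, 3],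
  [7],
  [16, 7, 14],
  [7, 5, 3],
  [6, 15],
  [7, 3],
  [7, 5],
  [2, 6, 15],
  [3, 14],
  [12, 7],
  [3, 15, 3],
  [3, 1, 13],
  [12, 5, 16, 4],
  [3, 15, 14],
  [12, 4, 11, 3],
  [12, 1, 15, 7],
  [15, 4, 10],
  [8, 14, 5],
  [5, 1, 15],
  [10, 0, 15, 4],
  [0, 4, 16, 3],
  [4, 3, 15],
  [15, 3, 8],
  [5, 15],
  [4, 15],
  [5, 3, 16, 3],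
  [3, 0, 15, 3],
  [15, 8, 7],
  [15, 6, 16, 4],
  [3, 16, 16, 4],
  [13, 8, 4, 3],
  [12, 4, 8, 4],
  [7, 14, 11, 4],
  [0, 12, 7],
  [3, 16, 6],
  [3, 2, 13],
  [6, 16, 3],
  [7, 6, 3],
  [7, 4, 3],
  [6, 3, 15],
  [6, 2, 15],
  [7, 6],
  [7, 4],
  [3, 15, 10, 3],
  [3, 13],
  [3, 12],
  [10, 3, 14],
  [16, 11, 8, 3],
  [8, 15, 6, 3],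
  [3, 15, 13],
  [3, 15, 12],
  [14, 9, 5],
  [10, 4, 16, 5],
  [12, 11, 4],
  [5, 3, 15],
  [5, 16, 3],
  [2, 4, 15],
  [0, 4, 15],
  [10, 15, 4],
  [5, 2, 15],
  [4, 16, 3],
  [4, 2, 15],
  [3, 16, 4],
  [3, 16, 5],
  [12, 16, 9, 3],
  [3, 2, 15, 3],
  [0, 12, 11, 4],
  [16, 14, 8, 3],
  [14, 4, 10],
  [3, 16, 5, 3],
  [3, 16, 4, 3],
  [14, 11, 6, 3],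
  [3, 12, 9],
  [16, 7, 12],
  [13, 7],
  [2, 15, 11],
  [11, 6],
  [16, 16, 7, 3],
  [2, 11],
  [2, 14, 3],
  [10, 15, 3],
  [13, 3, 15, 3],
  [14, 7],
  [15, 12, 10, 3],
  [11, 10, 7, 3],
  [5, 16, 12, 4],
  [13, 10, 6, 3],
  [15, 11, 6, 3],
  [11, 4, 8],
  [12, 10, 5],
  [16, 0, 13, 3],
  [2, 15, 13, 3],
  [8, 3, 15, 3],
  [16, 11, 10, 3],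
  [4, 15, 4],
  [11, 1, 14],
  [13, 9, 4],
  [7, 12, 6],
  [6, 10, 15, 3],
  [8, 15, 7],
  [2, 15, 5, 3],
  [2, 15, 4, 3],
  [3, 16, 9, 3],
  [14, 9, 6, 3],
  [6, 2, 12, 3],
  [2, 15, 4],
  [2, 15, 5],
  [13, 11, 4, 3],
  [8, 6, 16, 3],
  [15, 8, 3],
  [15, 9, 3],
  [6, 3, 15, 5],
  [4, 15, 14, 3],
  [14, 3, 8],
  [3, 16, 10, 5],
  [6, 8, 15],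
  [15, 12, 9, 4],
  [12, 11, 5],
  [13, 8, 3],
  [5, 16, 8, 3],
  [2, 12, 11],
  [2, 14, 11],
  [12, 16, 7, 3],
  [5, 15, 7, 4],
  [16, 16, 7, 4],
  [15, 4, 8, 4],
  [2, 4, 11],
  [4, 16, 10, 3],
  [2, 15, 6, 3],
  [11, 9, 3],
  [6, 15, 4, 3],
  [3, 14, 11, 6],
  [2, 15, 6],
  [12, 6, 11],
  [15, 10, 5],
  [12, 0, 12, 3],
  [8, 14, 3],
  [12, 16, 8, 3],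
  [11, 8, 4],
  [2, 12, 3],
  [15, 3, 14, 3],
  [11, 3, 10],
  [15, 4, 11, 3],
  [2, 13, 3],
  [0, 11, 4],
  [7, 14],
  [2, 13, 7],
  [1, 15, 11],
  [15, 9, 4],
  [15, 8, 4, 3],
  [11, 5],
  [16, 11, 6],
  [12, 6, 8, 3],
  [16, 14, 7],
  [15, 6, 8, 3],
  [15, 9, 7],
  [13, 3, 8],
  [14, 7, 4],
  [2, 15, 9, 3],
  [6, 2, 15, 5],
  [6, 0, 15, 4],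
  [15, 11, 5, 3],
  [11, 7, 5, 3],
  [1, 15, 6, 3],
  [12, 10, 7],
  [6, 11, 16, 3],
  [1, 15, 6],
  [6, 11],
  [15, 10, 6, 3],
  [10, 14, 5, 3],
  [0, 15, 10, 4],
  [13, 4, 10],
  [4, 16, 8, 3],
  [10, 12, 7],
  [15, 10, 7],
  [6, 16, 11, 3],
  [8, 6, 15],
  [13, 11, 6, 3],
  [8, 14, 4],
  [16, 4, 15, 4],
  [1, 15, 4],
  [1, 15, 5],
  [15, 12, 9, 3],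
  [16, 11, 9, 3],
  [12, 7, 6, 3],
  [14, 8, 3],
  [3, 15, 9],
  [6, 15, 8],
  [1, 15, 4, 3],
  [13, 7, 4],
  [6, 11, 8, 3],
  [1, 13, 3],
  [4, 15, 12, 3],
  [1, 15, 12, 3],
  [11, 8, 7, 3],
  [16, 2, 12, 3],
  [1, 12, 3],
  [14, 11, 4],
  [16, 13, 8, 3],
  [4, 16, 7, 3],
  [1, 12, 11],
  [1, 14, 11],
  [10, 15, 5],
  [7, 2, 15, 4],
  [7, 16, 15, 4],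
  [2, 13, 8, 3],
  [16, 15, 9, 3],
  [4, 8, 15, 3],
  [2, 14, 7],
  [11, 8, 3],
  [7, 0, 15, 3],
  [13, 11, 8, 4],
  [10, 2, 15, 3],
  [10, 4, 16, 3],
  [11, 10, 4, 3],
  [7, 16, 10, 3],
  [0, 14, 3],
  [7, 12],
  [16, 7],
  [16, 7, 5, 3],
  [16, 7, 3],
  [16, 7, 5],
  [11, 4],
  [16, 6, 15],
  [16, 3, 14],
  [0, 15, 4],
  [0, 15, 5],
  [16, 3, 15, 3],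
  [11, 2, 15, 3],
  [0, 15, 4, 3],
  [0, 15, 5, 3],
  [14, 7, 6],
  [3, 10, 12],
  [15, 11, 4, 3],
  [10, 15, 12, 3],
  [6, 8, 15, 4],
  [14, 10, 7],
  [13, 11, 10, 3],
  [4, 15, 5],
  [11, 16, 5, 3],
  [11, 1, 12],
  [4, 15, 8],
  [15, 13, 7, 3],
  [15, 2, 14, 4],
  [0, 13, 3],
  [10, 14, 7],
  [10, 15, 7],
  [11, 10, 3],
  [11, 8, 6],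
  [16, 5, 15],
  [0, 12, 3],
  [16, 4, 15],
  [12, 7, 4, 3],
  [15, 12, 8, 3],
  [5, 15, 4, 3],
  [6, 16, 7, 3],
  [15, 8, 6, 3],
  [0, 15, 13, 3],
  [13, 7, 6],
  [14, 11, 5],
  [14, 9, 3],
  [7, 16, 5, 3],
  [2, 11, 8, 3],
  [15, 4, 8, 3],
  [13, 4, 8, 3],
  [5, 15, 7, 3],
  [12, 3, 8],
  [10, 1, 15, 3],
  [11, 6, 8],
  [4, 16, 14, 4],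
  [12, 3, 16, 4],
  [16, 3, 13],
  [0, 4, 11],
  [0, 15, 6, 3],
  [0, 15, 6],
  [14, 6, 11],
  [15, 10, 4],
  [12, 11, 6, 3],
  [6, 15, 5, 3],
  [4, 11, 4, 3],
  [4, 15, 7, 3],
  [1, 13, 8, 3],
  [16, 7, 6, 3],
  [16, 7, 4, 3],
  [16, 7, 6],
  [16, 7, 4],
  [0, 15, 14, 3],
  [15, 12, 7, 3],
  [10],
  [9],
  [8],
  [15, 10],
  [8, 15, 8],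
  [13, 8],
  [15, 14, 10],
  [6, 15, 12, 4],
  [15, 11, 8],
  [14, 10],
  [8, 12, 8],
  [8, 15, 11],
  [4, 10, 3],
  [9, 7, 6, 3],
  [3, 8, 7],
  [1, 14, 6],
  [12, 4, 10, 3],
  [6, 16, 5, 3],
  [15, 11, 3],
  [15, 3, 8, 7],
  [16, 3, 8, 7],
  [0, 14, 6],
  [12, 11, 3],
  [12, 16, 11, 3],
  [10, 15],
  [13, 9],
  [15, 8],
  [13, 10],
  [15, 9],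
  [8, 15],
  [12, 10],
  [6, 15, 14, 4],
  [11, 8],
  [15, 12, 10],
  [8, 14, 8],
  [13, 11, 8],
  [11, 3],
  [11, 2, 15],
  [16, 11, 3],
  [15, 4, 10, 3],
  [3, 10],
  [9, 5, 3],
  [8, 5],
  [14, 6],
  [12, 4, 8],
  [16, 8, 7, 3],
  [0, 15, 11, 3],
  [14, 1, 15, 3],
  [14, 16, 5, 3],
  [2, 15, 10],
  [14, 16, 4, 3],
  [2, 13, 8],
  [6, 10],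
  [9, 7, 4],
  [8, 7, 3],
  [6, 15, 3],
  [6, 16, 4, 3],
  [1, 13, 8],
  [16, 14, 6],
  [4, 15, 7],
  [15, 14, 5, 3],
  [16, 3, 10],
  [15, 14, 4, 3],
  [16, 8, 5],
  [3, 12, 3],
  [12, 10, 6],
  [14, 6, 3],
  [8, 15, 4],
  [15, 12, 8, 6],
  [14, 2, 14],
  [11, 10, 4],
  [14, 16, 5],
  [6, 11, 7],
  [4, 3, 15, 6],
  [14, 4, 11],
  [0, 15, 7, 4],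
  [3, 15, 6, 3],
  [8, 14, 5, 3],
  [15, 14, 4],
  [15, 14, 5],
  [10, 14],
  [2, 13, 5],
  [12, 8],
  [16, 10, 12],
  [15, 11, 9],
  [14, 8],
  [10, 15, 11],
  [14, 9],
  [8, 14],
  [13, 11, 10],
  [15, 12, 9],
  [8, 12],
  [5, 16, 4, 3],
  [14, 11, 3],
  [13, 11, 3],
  [13, 4, 10, 3],
  [15, 14, 11, 3],
  [16, 11, 16, 3],
  [3, 12, 4],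
  [1, 13, 10, 3],
  [15, 10, 12],
  [11, 9],
  [15, 12, 8],
  [10, 12],
  [6, 15, 4],
  [15, 14, 8],
  [11, 10],
  [12, 9],
  [16, 8, 12],
  [15, 11, 10],
  [15, 14, 9],
  [15, 8, 12],
  [11, 1, 15],
  [16, 3, 12, 4],
  [5, 16, 10, 3],
  [11, 16, 3],
  [4, 15, 6, 3],
  [14, 16, 11, 3],
  [14, 4, 10, 3],
  [1, 13, 4, 3],
  [14, 5],
  [2, 12, 5],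
  [14, 16, 6],
  [14, 4],
  [16, 16, 14, 4],
  [14, 2, 13],
  [2, 13, 4],
  [15, 6, 10],
  [2, 15, 13, 4],
  [5, 15, 3],
  [5, 16, 5, 3],
  [10, 14, 6, 3],
  [15, 8, 5],
  [4, 2, 15, 3],
  [4, 8, 12],
  [3, 12, 8],
  [10, 15, 4, 3],
  [3, 13, 4],
  [10, 15, 11, 5],
  [12, 8, 6],
  [14, 5, 3],
  [14, 2, 15, 3],
  [11, 7, 6],
  [0, 13, 6, 3],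
  [14, 4, 3],
  [14, 16, 6, 3],
  [14, 3, 16, 3],
  [14, 2, 12],
  [3, 13, 7],
  [15, 8, 7, 3],
  [10, 15, 7, 5],
  [14, 0, 15, 3],
  [13, 8, 4],
  [15, 3, 12, 3],
  [15, 3, 10],
  [15, 14, 6],
  [16, 14, 4],
  [16, 14, 5],
  [14, 11, 7, 3],
  [12, 9, 6],
  [10, 6],
  [9, 7, 5],
  [4, 8],
  [13, 6],
  [6, 2, 15, 3],
  [14, 8, 5],
  [16, 13, 4, 3],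
  [13, 2, 14],
  [13, 3, 15],
  [16, 13, 5, 3],
  [10, 7, 3],
  [9, 6],
  [8, 6],
  [1, 12, 6],
  [5, 15, 7],
  [1, 15, 12, 4],
  [15, 13, 6, 3],
  [12, 8, 4],
  [15, 4, 8],
  [2, 15, 11, 5],
  [15, 8, 6],
  [11, 7, 5],
  [4, 10, 15],
  [5, 15, 4],
  [16, 13, 4],
  [10, 12, 5],
  [13, 1, 12],
  [13, 6, 3],
  [14, 3, 10],
  [1, 15, 7, 5],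
  [2, 13, 8, 4],
  [5, 15, 14, 3],
  [15, 13, 6],
  [15, 10, 6],
  [10, 15, 12, 4],
  [4, 11, 8],
  [0, 13, 5, 3],
  [3, 15, 5, 3],
  [0, 15, 8, 4],
  [3, 16, 15, 4],
  [10, 4, 3],
  [9, 7, 3],
  [6, 8],
  [12, 6],
  [6, 15, 7],
  [1, 15, 12, 5],
  [3, 13, 8],
  [8, 14, 4, 3],
  [4, 10, 4],
  [9, 4, 3],
  [8, 4],
  [1, 13, 6],
  [6, 0, 15, 3],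
  [3, 14, 10],
  [0, 7, 16, 3],
  [15, 12, 4],
  [10, 4, 15, 4],
  [15, 12, 5],
  [13, 8, 7, 3],
  [4, 8, 14],
  [14, 10, 6],
  [12, 3, 15],
  [6, 11, 3],
  [0, 13, 4, 3],
  [5, 15, 14, 4],
  [12, 6, 3],
  [12, 16, 6, 3],
  [10, 15, 7, 6],
  [15, 12, 4, 3],
  [12, 4, 11],
  [8, 15, 5],
  [3, 15, 14, 3],
  [15, 12, 5, 3],
  [15, 0, 14, 5],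
  [2, 11, 10],
  [2, 12, 9],
  [16, 12, 4],
  [3, 15, 4, 3],
  [16, 12, 5],
  [5, 15, 13, 3],
  [16, 10, 6],
  [13, 5],
  [16, 4, 8],
  [16, 13, 6],
  [13, 4],
  [13, 2, 15, 3],
  [7, 12, 3],
  [12, 6, 11, 3],
  [15, 0, 14, 4],
  [13, 2, 12],
  [15, 13, 4],
  [5, 0, 15, 3],
  [8, 4, 15, 3],
  [15, 13, 5],
  [4, 16, 4],
  [2, 13, 10, 3],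
  [16, 10, 7, 3],
  [16, 9, 6],
  [16, 8, 6],
  [0, 14, 4],
  [13, 0, 15, 3],
  [4, 11, 4],
  [13, 3, 16, 3],
  [8, 0, 15, 3],
  [6, 15, 5],
  [16, 10, 12, 5],
  [16, 13, 6, 3],
  [11, 8, 4, 3],
  [13, 5, 3],
  [13, 4, 3],
  [5, 15, 11],
  [12, 4, 10, 4],
  [15, 7, 12, 3],
  [13, 4, 11],
  [7, 14, 4],
  [11, 16, 7, 3],
  [15, 13, 5, 3],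
  [15, 13, 4, 3],
  [12, 16, 12, 6],
  [2, 15, 10, 6],
  [0, 14, 5],
  [12, 5],
  [12, 2, 12],
  [13, 8, 5],
  [16, 9, 4, 3],
  [12, 4],
  [3, 13, 5],
  [12, 16, 4],
  [15, 4, 10, 4],
  [12, 16, 5],
  [2, 4, 15, 3],
  [4, 3, 15, 3],
  [15, 14, 10, 6],
  [4, 16, 5],
  [16, 3, 13, 8],
  [12, 11, 7, 3],
  [16, 12, 6],
  [16, 10, 4, 3],
  [15, 12, 6, 3],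
  [14, 9, 6],
  [7, 14, 5],
  [15, 9, 4, 3],
  [11, 7, 4],
  [12, 16, 4, 3],
  [15, 8, 4],
  [3, 15, 8, 3],
  [11, 10, 5],
  [12, 5, 3],
  [0, 15, 7, 3],
  [12, 1, 15, 3],
  [12, 2, 13],
  [12, 4, 3],
  [13, 6, 10],
  [10, 1, 12],
  [15, 10, 4, 3],
  [15, 12, 6],
  [14, 8, 6],
  [4, 15, 7, 5],
  [15, 6, 11, 3],
  [10, 15, 5, 3],
  [10, 3],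
  [9, 5],
  [3, 8],
  [13, 11, 4],
  [15, 7],
  [14, 11, 7],
  [15, 7, 5, 3],
  [12, 7, 6],
  [4, 10],
  [9, 7, 4, 3],
  [8, 7],
  [11, 2, 14],
  [8, 15, 12, 5],
  [6, 16, 4],
  [0, 15, 7],
  [12, 2, 13, 3],
  [10, 15, 11, 6],
  [3, 12, 6],
  [4, 15, 4, 3],
  [11, 7],
  [16, 6, 8, 3],
  [15, 0, 12, 7],
  [7, 16, 8, 3],
  [15, 12, 7],
  [0, 16, 14, 4],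
  [8, 15, 4, 3],
  [2, 15, 8, 4],
  [15, 3, 14],
  [16, 10, 12, 3],
  [13, 6, 11],
  [11, 8, 7],
  [16, 9, 4],
  [15, 7, 3],
  [1, 13, 6, 3],
  [14, 8, 7],
  [15, 7, 5],
  [10, 5],
  [9, 3],
  [8, 3],
  [4, 10, 14],
  [6, 15, 14],
  [6, 2, 12],
  [1, 15, 7],
  [13, 7, 4, 3],
  [6, 10, 3],
  [9, 7, 6],
  [4, 8, 4],
  [6, 16, 5],
  [2, 15, 7],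
  [3, 13, 6],
  [7, 2, 14],
  [11, 16, 8, 3],
  [4, 11, 3],
  [16, 3, 10, 7],
  [16, 9, 6, 3],
  [16, 8, 6, 3],
  [3, 14, 3],
  [8, 15, 3],
  [15, 2, 12, 3],
  [8, 4, 15],
  [16, 7, 16, 3],
  [12, 11, 4, 3],
  [3, 15, 6],
  [8, 3, 15],
  [4, 10, 14, 3],
  [8, 12, 3],
  [3, 15, 12, 3],
  [6, 11, 8],
  [3, 13, 11],
  [12, 9, 4],
  [5, 16, 13, 3],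
  [16, 4, 8, 3],
  [10, 1, 14],
  [0, 13, 5],
  [12, 10, 3],
  [11, 16, 6],
  [4, 15, 3],
  [15, 14, 7],
  [16, 2, 14, 4],
  [16, 13, 7, 3],
  [12, 7, 4],
  [13, 10, 3],
  [15, 11, 6],
  [1, 14, 4],
  [0, 7, 12, 3],
  [12, 8, 7],
  [15, 2, 11],
  [12, 6, 16, 4],
  [15, 2, 14, 3],
  [0, 12, 4],
  [10, 2, 15],
  [13, 11, 5],
  [2, 15, 8],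
  [4, 15, 11],
  [15, 13, 7],
  [12, 11, 7],
  [14, 10, 3],
  [11, 0, 15, 3],
  [11, 6, 3],
  [15, 12, 10, 5],
  [8, 14, 7],
  [4, 8, 15],
  [11, 0, 14, 3],
  [13, 8, 7],
  [16, 11, 4, 3],
  [12, 2, 12, 3],
  [11, 6, 8, 3],
  [10, 15, 6, 3],
  [1, 14, 5],
  [5, 16, 4],
  [13, 10, 4],
  [14, 2, 11],
  [15, 7, 6, 3],
  [14, 7, 3],
  [8, 1, 14],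
  [13, 7, 6, 3],
  [15, 7, 4, 3],
  [12, 10, 6, 3],
  [5, 15, 14],
  [6, 15, 10],
  [5, 2, 15, 13],
  [4, 15, 14],
  [4, 16, 6, 3],
  [1, 14, 8],
  [2, 13, 7, 3],
  [13, 8, 6, 3],
  [15, 3, 16, 4],
  [12, 11, 5, 3],
  [0, 13, 4],
  [3, 15, 13, 5],
  [7, 2, 12],
  [16, 0, 11, 3],
  [5, 16, 15, 6],
  [14, 11, 6],
  [15, 3, 13],
  [2, 13, 10],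
  [2, 15, 9],
  [15, 3, 12],
  [2, 11, 3],
  [12, 8, 4, 3],
  [2, 12, 10],
  [15, 7, 6],
  [2, 11, 8],
  [15, 7, 4],
  [10, 6, 3],
  [9, 7],
  [6, 8, 3],
  [15, 6, 11],
  [16, 4, 15, 3],
  [14, 16, 7],
  [7, 2, 15],
  [11, 1, 15, 3],
  [16, 13, 10, 3],
  [8, 12, 5],
  [10, 7],
  [9, 4],
  [8, 4, 3],
  [14, 0, 13, 3],
  [16, 12, 8, 7],
  [15, 11, 5],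
  [13, 2, 15, 4],
  [10, 12, 3],
  [10, 1, 15],
  [13, 7, 5],
  [1, 15, 8],
  [2, 15, 7, 4],
  [15, 7, 14],
  [13, 6, 8, 3],
  [11, 10, 6],
  [3, 15, 13, 3],
  [11, 5, 3],
  [11, 2, 12],
  [7, 14, 6],
  [3, 15, 5],
  [8, 15, 5, 3],
  [10, 3, 14, 3],
  [1, 15, 14, 4],
  [3, 16, 13, 3],
  [3, 14, 11],
  [0, 13, 10, 5],
  [10, 4],
  [14, 3, 12],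
  [4, 8, 3],
  [12, 2, 11],
  [6, 15, 12],
  [6, 16, 6, 3],
  [7, 16, 3],
  [5, 15, 11, 3],
  [15, 14, 9, 3],
  [2, 13, 6],
  [3, 15, 10],
  [3, 14, 6],
  [3, 10, 7],
  [9, 6, 3],
  [8, 6, 3],
  [11, 1, 15, 4],
  [13, 11, 8, 3],
  [14, 11, 5, 3],
  [4, 15, 12, 4],
  [0, 13, 6],
  [6, 3, 15, 3],
  [14, 9, 4],
  [12, 7, 3],
  [16, 2, 11, 3],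
  [12, 8, 3],
  [2, 15, 7, 6],
  [11, 8, 5],
  [16, 15, 7, 4],
  [4, 11, 7],
  [6, 10, 15],
  [10, 0, 14, 3],
  [1, 13, 10],
  [1, 15, 9],
  [3, 15, 4],
  [1, 16, 11, 3],
  [3, 12, 11],
  [10, 2, 14],
  [1, 13, 5],
  [2, 12, 8],
  [13, 11, 6],
  [4, 16, 5, 3],
  [12, 16, 7],
  [13, 7, 3],
  [12, 7, 16, 4],
  [3, 15, 13, 4],
  [2, 14, 4],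
  [5, 16, 6, 3],
  [5, 2, 15, 3],
  [5, 15, 13],
  [13, 10, 7],
  [15, 11, 4],
  [1, 12, 4],
  [15, 0, 13, 3],
  [6, 8, 14],
  [16, 10, 3],
  [16, 9, 5],
  [16, 3, 8],
  [12, 10, 4],
  [15, 7, 12],
  [14, 0, 11, 4],
  [10, 6, 15],
  [16, 15, 7],
  [11, 4, 3],
  [15, 14, 7, 6],
  [10, 14, 3],
  [8, 4, 16, 3],
  [16, 4, 10],
  [10, 15, 11, 3],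
  [16, 8, 7],
  [12, 0, 11, 3],
  [0, 14, 6, 3],
  [8, 0, 15, 4],
  [2, 14, 5],
  [12, 9, 3],
  [16, 8, 12, 3],
  [4, 16, 4, 3],
  [4, 2, 12],
  [0, 13, 10, 3],
  [12, 7, 5],
  [12, 11, 6],
  [7, 16, 7, 3],
  [16, 12, 9, 4],
  [15, 14, 8, 3],
  [3, 14, 4],
  [5, 15, 12],
  [12, 6, 10, 3],
  [1, 13, 4],
  [4, 15, 12],
  [15, 1, 12, 11],
  [2, 14, 9],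
  [8, 2, 14],
  [8, 14, 8, 3],
  [0, 4, 15, 3],
  [16, 4, 11, 3],
  [7, 16, 4],
  [16, 6, 10, 3],
  [10, 14, 6],
  [13, 10, 5],
  [0, 16, 11, 3],
  [1, 15, 7, 4],
  [0, 11, 3],
  [15, 11, 8, 3],
  [15, 13, 7, 4],
  [8, 4, 16, 5],
  [11, 4, 8, 3],
  [16, 10, 5],
  [16, 9, 3],
  [16, 8, 3]]

/-- the points of the orbit of the third base point -/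
def orb3 : List Nat := [19, 22, 24, 26, 35, 38, 41, 42, 51, 54, 57, 58, 67, 69, 73, 74, 83, 85, 89, 90]

/-- paths to them -/
def path3 : List (List Nat) := [[],
  [3, 3],
  [2, 3, 2],
  [3],
  [2, 3, 3, 2, 2, 2],
  [2, 3, 2, 2],
  [3, 3, 2, 2, 2],
  [3, 2, 2],
  [2, 3, 3, 2],
  [3, 2],
  [2, 2, 2],
  [2, 3, 2, 2, 2],
  [2, 3, 3, 2, 2],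
  [3, 3, 2],
  [2, 2],
  [3, 2, 2, 2],
  [2, 3, 3],
  [2],
  [3, 3, 2, 2],
  [2, 3]]

/-- a conjugator to a second element of order five -/
def hW : List Nat := [1, 0, 2, 1, 3, 3, 2, 2, 2, 0, 1, 0]

/-- an outer element centralising the first one -/
def cW : List Nat := [4, 6, 4, 6, 6, 6, 7, 1, 0, 2, 1, 0, 2, 1, 0]

/-- conjugators to the elements of the Sylow subgroup, row by row -/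
def sylW : List (List Nat) := [[],
  [1, 0, 2, 1, 3, 3, 2, 2, 2, 0, 1, 0],
  [0, 1, 3, 0, 2, 2, 0, 2, 3, 1, 3, 3, 2, 2, 0],
  [1, 0, 2, 1, 3, 3, 2, 2, 2, 0, 1, 3, 0],
  [1, 0, 2, 1, 3, 3, 2, 2, 2, 0, 1, 3, 3, 0],
  [],
  [1, 0, 2, 0, 2, 1, 3, 1, 3, 1, 3, 2, 0, 1, 3, 3, 0],
  [0, 1, 3, 0, 1, 3, 2, 2, 0, 2, 2, 2, 0, 1, 3, 0],
  [2, 0, 1, 3, 2, 2, 1, 0, 2, 2, 0, 2, 3, 0, 2, 1, 0],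
  [2, 0, 1, 3, 0, 1, 3, 2, 2, 0, 2, 2, 2, 0, 1, 0],
  [2, 2, 2],
  [1, 3, 2, 2, 1, 0, 2, 3, 0, 2, 0, 1, 3, 1, 3, 1, 0],
  [1, 0, 2, 0, 2, 1, 3, 1, 3, 1, 3, 2, 0, 1, 3, 0],
  [0, 1, 3, 2, 2, 1, 0, 2, 2, 0, 2, 3, 0, 2, 1, 0],
  [0, 1, 3, 0, 1, 3, 2, 2, 0, 2, 2, 2, 0, 1, 0],
  [2],
  [0, 1, 3, 0, 2, 1, 0, 2, 3, 3, 0, 2, 0, 2, 1, 0],
  [0, 1, 3, 1, 3, 0, 2, 0, 2, 3, 0, 2, 2, 2, 0, 1, 0],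
  [0, 1, 3, 2, 2, 1, 0, 2, 3, 1, 0, 2, 0, 2, 0],
  [2, 2, 0, 1, 3, 0, 1, 3, 2, 2, 0, 2, 2, 2, 0, 1, 0],
  [2, 2],
  [0, 1, 3, 2, 1, 3, 1, 3, 0, 2, 0, 2, 0, 2, 2, 0],
  [0, 1, 3, 0, 1, 3, 3, 2, 2, 2, 0, 2, 2, 2, 0, 1, 0],
  [2, 0, 1, 3, 2, 2, 1, 0, 2, 3, 1, 0, 2, 0, 2, 0],
  [1, 0, 2, 0, 2, 1, 3, 1, 3, 1, 3, 2, 0, 1, 0]]

end CfsgLib.ThompsonF42.Tits
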