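import Cfsg.Agent.Lib.Chev.Tits2.TransData
import Cfsg.Agent.Lib.KnownB.ThompsonF42.Tits.Data
import Cfsg.Agent.Lib.KnownB.ThompsonF42.Tits.Paths

/-!
Evaluation of tables and the tests made on them.
-/

set_option autoImplicit false
set_option maxRecDepth 100000

namespace CfsgLib.ThompsonF42.Tits

open CfsgLib.Chev CfsgLib.Chev.Tits2 CfsgLib.Chev.F42.Two

/-- the number of points -/
def nP : ℕ := 1755

/-- an entry of a table -/
def get (T i : ℕ) : ℕ := Nat.land (Nat.shiftRight T (Nat.mul 11 i)) 2047

/-- a vector of the orbit -/
def vec (i : ℕ) : ℕ := Nat.land (Nat.shiftRight vecP (Nat.mul 64 i)) 4503599627370495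

/-- a list of tables applied to a point, the last one first -/
def evalT (l : List ℕ) (i : ℕ) : ℕ := l.foldr get i

/-- the root word of a word of letters -/
def rootsOf (w : List ℕ) : List ℕ := w.flatMap fun l => gW.getD l []

/-- the tables of a word of letters -/
def tabsOf (w : List ℕ) : List ℕ := w.map fun l => gT.getD l 0

/-- the parity of a letter -/
def gPar : List Bool := [false, false, true, true, false, false, true, true]

/-- the parity of a word -/
def parW (w : List ℕ) : Bool := w.foldr (fun l b => xor (gPar.getD l false) b) false

/-- a table of root elements sends the vectors as claimed -/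
def genOK (L : List ℕ) (T : ℕ) : Bool :=
  (L.all fun r => Nat.blt r 48) && (List.range nP).all fun i =>
    Nat.blt (get T i) nP && Nat.beq (appAW L (vec i)) (vec (get T i))

/-- two tables are inverse to each other -/
def invOK (T T' : ℕ) : Bool :=
  (List.range nP).all fun i => Nat.blt (get T' i) nP && Nat.beq (get T (get T' i)) i

/-- a table is a composite -/
def compOK (l : List ℕ) (T : ℕ) : Bool :=
  (List.range nP).all fun i => Nat.beq (get T i) (evalT l i)

/-- a pointwise test on two lists of equal length -/
def all2 {α β : Type*} (f : α → β → Bool) : List α → List β → Bool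
  | [], [] => true
  | a :: l, b :: m => f a b && all2 f l m
  | _, _ => false

/-- a composite fixes the base -/
def fixesB (l : List ℕ) : Bool := bases.all fun b => Nat.beq (evalT l b) b

/-- fifth power the identity on the base -/
def fiveB (l : List ℕ) : Bool :=
  bases.all fun b => Nat.beq (evalT l (evalT l (evalT l (evalT l (evalT l b))))) b

/-- a witness for one element: its product with an element of order five has order five -/
def witOK (N A B C D k : ℕ) : Bool :=
  let z := [uT.getD (k % 32) 0, yT.getD (k / 32) 0, vT.getD (k % 32) 0, N, A, B, C, D]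
  Nat.blt (k / 32) yT.length && fiveB z && !fixesB z

/-- the parity of a factor -/
def fPar (x : ℕ) : Bool := bif Nat.beq x 0 then false else parW (fW.getD (x - 1) [])

/-- the parities and tables of the pairs at one place -/
def place (a : ℕ) : List (Bool × ℕ) :=
  List.zipWith (fun x T => (xor (fPar x.1) (fPar x.2), T)) (pairIx.getD a []) ((uT.drop (8 * a)).take 8)

/-- all witnesses of a cell -/
def cellOK (N : ℕ) (W : List (List (List (List ℕ)))) : Bool :=
  all2 (fun a W => all2 (fun b W => all2 (fun c W => all2 (fun d k =>
      xor a.1 (xor b.1 (xor c.1 d.1)) || witOK N a.2 b.2 c.2 d.2 k)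
    (place 3) W) (place 2) W) (place 1) W) (place 0) W

end CfsgLib.ThompsonF42.Tits
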