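import Cfsg.Agent.Lib.KnownB.ThompsonF42.Tits.Sylow

/-!
The elements behind the tables, and the meaning of a witness.
-/

set_option autoImplicit false
set_option maxRecDepth 100000
set_option maxHeartbeats 600000

namespace CfsgLib.ThompsonF42.Tits

open Cfsg.Lie Matrix CfsgLib.Chev CfsgLib.Chev.F42 CfsgLib.Chev.F42.Two CfsgLib.Chev.Tits2

local notation "G₂" => GL chevF4.Idx K2

/-- a product of two conjugates of the chosen element by elements of the whole group -/
def Prod2 (g : G₂) : Prop :=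
  ∃ c ∈ T.fix, ∃ d ∈ T.fix, g = (c * xE * c⁻¹) * (d * xE * d⁻¹)

theorem Prod2.conj {g h : G₂} (hg : Prod2 g) (hh : h ∈ T.fix) : Prod2 (h * g * h⁻¹) := by
  obtain ⟨c, hc, d, hd, rfl⟩ := hg
  exact ⟨h * c, mul_mem hh hc, h * d, mul_mem hh hd, by group⟩

/-- the tables of one factor -/
def fTabs (x : ℕ) : List ℕ := bif Nat.beq x 0 then [] else [fT.getD (x - 1) 0]

/-- one factor -/
noncomputable def fEl (x : ℕ) : G₂ := bif Nat.beq x 0 then 1 else elw (fW.getD (x - 1) [])

/-- the roots of one factor -/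
def fRoots (x : ℕ) : List ℕ := bif Nat.beq x 0 then [] else fR.getD (x - 1) []

theorem act_fEl {x : ℕ} (hx : x ≤ 16) : Act (fEl x) (fPar x) (evalT (fTabs x)) := by
  rcases x with _ | x
  · exact Act.one
  · exact (act_fW (show x < 16 by omega)).2

theorem fEl_roots {x : ℕ} (hx : x ≤ 16) : fEl x = prodX (fRoots x) := by
  rcases x with _ | x
  · rfl
  · have h := word_ok
    simp only [Bool.and_eq_true] at h
    exact prodX_of_wEq (all2_get [] [] h.1.1 x (show x < 16 by omega))

/-- one pair of factors -/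
noncomputable def uEl (i : ℕ) : G₂ :=
  fEl (pairIx.flatten.getD i (0, 0)).1 * fEl (pairIx.flatten.getD i (0, 0)).2

/-- the parity of one pair -/
def uPar (i : ℕ) : Bool :=
  xor (fPar (pairIx.flatten.getD i (0, 0)).1) (fPar (pairIx.flatten.getD i (0, 0)).2)

theorem act_uEl {i : ℕ} (hi : i < 32) : Act (uEl i) (uPar i) (get (uT.getD i 0)) := by
  have h := all2_get (0, 0) 0 uT_ok i (show i < pairIx.flatten.length from hi)
  have hp := pairIx_ok
  simp only [List.all_eq_true, Bool.and_eq_true, Nat.ble_eq] at hp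
  obtain ⟨o, ho, hio⟩ := List.mem_flatten.1
    (show pairIx.flatten.getD i (0, 0) ∈ pairIx.flatten by
      rw [List.getD_eq_getElem _ _ (show i < pairIx.flatten.length from hi)]; exact List.getElem_mem _)
  obtain ⟨h1, h2⟩ := hp o ho _ hio
  refine ((act_fEl h1).mul (act_fEl h2)).congr fun p hp => ?_
  rw [compOK_spec h p hp]
  exact List.foldr_append

theorem act_vEl {i : ℕ} (hi : i < 32) : Act (uEl i)⁻¹ (uPar i) (get (vT.getD i 0)) :=
  (act_uEl hi).inv (invOK_spec (all2_get 0 0 vT_ok i (show i < uT.length from hi)))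

theorem five_alg {G : Type*} [Group G] {u y : G} (h5 : y ^ 5 = 1) (h1 : y ≠ 1) :
    (u * y * u⁻¹)⁻¹ ^ 5 = 1 ∧ (u * y * u⁻¹)⁻¹ ≠ 1 :=
  ⟨by rw [inv_pow, conj_pow, h5, mul_one, mul_inv_cancel, inv_one],
    by rwa [Ne, inv_eq_one, conj_eq_one_iff]⟩

theorem split_alg {G : Type*} [Group G] (u y g : G) :
    g = (u * y * u⁻¹)⁻¹ * (u * (y * (u⁻¹ * g))) := by group

/-- a table of an element of order five -/
def Fv (S : ℕ) : Prop := ∃ y : G₂, Act y false (get S) ∧ y ^ 5 = 1 ∧ y ≠ 1

theorem fv_all : ∀ S ∈ yT, Fv S := by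
  have h0 : Fv y0 := ⟨xE, act_word_tab xW_lt y0_ok, syl_facts.1, xE_ne⟩
  have hc : ∀ c ∈ yC, c < 8 := by decide +kernel
  have key : ∀ (cs ys : List ℕ) (S : ℕ), (∀ c ∈ cs, c < 8) → Fv S →
      all2 (fun p T => compOK [gT.getD p.1 0, p.2, gT.getD ((p.1 + 4) % 8) 0] T) (cs.zip (S :: ys)) ys = true →
      ∀ T' ∈ S :: ys, Fv T' := by
    intro cs
    induction cs with
    | nil =>
      intro ys S _ hS h
      cases ys with
      | nil => simpa using hS
      | cons y ys => simp [all2] at h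
    | cons c cs ih =>
      intro ys S hcs hS h
      cases ys with
      | nil => simpa using hS
      | cons S' ys =>
        simp only [List.zip_cons_cons, all2, Bool.and_eq_true] at h
        intro T' hT'
        rcases List.mem_cons.1 hT' with rfl | hT'
        · exact hS
        · refine ih ys S' (fun x hx => hcs x (List.mem_cons_of_mem _ hx)) ?_ h.2 T' hT'
          obtain ⟨y, hy, h5, h1⟩ := hS
          have hc8 := hcs c List.mem_cons_self
          have hA := (act_letter hc8).mul (hy.mul (act_letter (show (c + 4) % 8 < 8 by omega)))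
          rw [elw_inv_single hc8] at hA
          refine ⟨elw [c] * (y * (elw [c])⁻¹), ?_, ?_, ?_⟩
          · have hp : gPar.getD ((c + 4) % 8) false = gPar.getD c false := by interval_cases c <;> rfl
            rw [hp, Bool.false_xor, Bool.xor_self] at hA
            exact hA.congr (compOK_spec h.1)
          · rw [← mul_assoc, conj_pow, h5, mul_one, mul_inv_cancel]
          · rwa [← mul_assoc, Ne, conj_eq_one_iff]
  exact key yC yT.tail y0 hc h0 yC_ok

theorem fiveB_spec {z : G₂} {b : Bool} {l : List ℕ} (hz : Act z b (evalT l)) (h : fiveB l = true) :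
    z ^ 5 = 1 := by
  simp only [fiveB, List.all_eq_true] at h
  have A := hz.mul (hz.mul (hz.mul (hz.mul hz)))
  rw [show z * (z * (z * (z * z))) = z ^ 5 by simp only [pow_succ, pow_zero, one_mul, mul_assoc]] at A
  exact eq_of_bases A Act.one fun x hx => Nat.eq_of_beq_eq_true (h x hx)

theorem fixesB_spec {z : G₂} {b : Bool} {l : List ℕ} (hz : Act z b (evalT l)) (h : fixesB l = false) :
    z ≠ 1 := by
  intro e
  rw [eq_one_iff hz] at e
  have : fixesB l = true := by
    simp only [fixesB, List.all_eq_true]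
    exact fun x hx => by rw [e x hx]; exact Nat.beq_refl _
  rw [h] at this
  exact Bool.false_ne_true this

theorem witOK_spec {n a b c d : G₂} {pn pa pb pc pd : Bool} {N A B C D k : ℕ} (hn : Act n pn (get N))
    (ha : Act a pa (get A)) (hb : Act b pb (get B)) (hc : Act c pc (get C)) (hd : Act d pd (get D))
    (h : witOK N A B C D k = true) : Prod2 (n * (a * (b * (c * d)))) := by
  simp only [witOK, Bool.and_eq_true, Bool.not_eq_true', Nat.blt_eq] at h
  obtain ⟨⟨hk, h5⟩, hne⟩ := h
  obtain ⟨y, hy, y5, y1⟩ := fv_all (yT.getD (k / 32) 0) (by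
    rw [List.getD_eq_getElem _ _ hk]; exact List.getElem_mem _)
  have hu := act_uEl (show k % 32 < 32 by omega)
  have hv := act_vEl (show k % 32 < 32 by omega)
  have Z := hu.mul (hy.mul (hv.mul (hn.mul (ha.mul (hb.mul (hc.mul hd))))))
  set u := uEl (k % 32)
  set g := n * (a * (b * (c * d))) with hg
  have hgf : g ∈ T.fix := mul_mem hn.mem (mul_mem ha.mem (mul_mem hb.mem (mul_mem hc.mem hd.mem)))
  have Z5 := fiveB_spec (l := _) Z h5
  have Z1 := fixesB_spec (l := _) Z hne
  obtain ⟨c2, hc2, e2⟩ := conj_x (mul_mem hu.mem (mul_mem hy.mem (mul_mem (inv_mem hu.mem) hgf))) Z5 Z1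
  have hyc : (u * y * u⁻¹)⁻¹ ∈ T.fix := inv_mem (mul_mem (mul_mem hu.mem hy.mem) (inv_mem hu.mem))
  have hfa := @five_alg G₂ _ u y y5 y1
  obtain ⟨c1, hc1, e1⟩ := conj_x hyc hfa.1 hfa.2
  refine ⟨c1, hc1, c2, hc2, ?_⟩
  rw [← e1, ← e2]
  exact @split_alg G₂ _ u y g

end CfsgLib.ThompsonF42.Tits
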