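import Cfsg.Agent.Lib.Chev.Tits2.Main

/-!
Every element is conjugate into one of seven double cosets, as a representative times an element
of the Sylow subgroup.
-/

set_option autoImplicit false
set_option maxRecDepth 100000
set_option maxHeartbeats 200000

namespace CfsgLib.ThompsonF42.Tits

open Cfsg.Lie Matrix CfsgLib.Chev CfsgLib.Chev.F42.Two
open CfsgLib.Chev.Tits2 (U0)

local notation "G₂" => GL chevF4.Idx K2

/-- the representative of a word in the orbit reflections -/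
noncomputable def nEl (w : List ℕ) : G₂ := (w.map T.nJ).prod

/-- the words kept -/
def Keep (w : List ℕ) : Prop :=
  w = [] ∨ w = [0] ∨ w = [1] ∨ w = [1, 0] ∨ w = [1, 0, 1, 0] ∨ w = [1, 0, 1, 0, 1, 0] ∨
    w = [1, 0, 1, 0, 1, 0, 1, 0]

/-- conjugate to a kept representative times a unipotent element -/
def Red (g : G₂) : Prop :=
  ∃ w, Keep w ∧ ∃ h ∈ T.fix, ∃ u ∈ U0, h * g * h⁻¹ = nEl w * u

/-- a double coset -/
def InCell (w : List ℕ) (g : G₂) : Prop := ∃ u ∈ U0, ∃ v ∈ U0, g = u * nEl w * v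

theorem diag_bot : chevF4.diagonalSubgroup K2 = ⊥ := by
  rw [diagonalSubgroup_eq stdF4.good, eq_bot_iff]
  rintro _ ⟨c, rfl⟩
  rw [Subgroup.mem_bot, show c = 1 from funext fun i => Units.ext ((show ∀ u : K2, u ≠ 0 → u = 1 by decide) _ (c i).ne_zero),
    map_one]

theorem borel_eq : chevF4.borelSubgroup K2 = chevF4.posUnipotent K2 := by
  rw [ChevalleyDatum.borelSubgroup, diag_bot, sup_bot_eq]

theorem nJ_mul_self {j : ℕ} (hj : j < 2) : T.nJ j * T.nJ j = 1 := by
  have := T.nJ_sq (F := K2) hj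
  rwa [diag_bot, Subgroup.mem_bot] at this

theorem nEl_fix : ∀ {w : List ℕ}, (∀ j ∈ w, j < 2) → nEl w ∈ chevF4.monomialSubgroup K2 ⊓ T.fix
  | [], _ => one_mem _
  | j :: w, h => by
    show T.nJ j * nEl w ∈ _
    exact mul_mem ⟨T.nJ_mem_monomial (h j List.mem_cons_self), T.nJ_fix (h j List.mem_cons_self)⟩
      (nEl_fix fun x hx => h x (List.mem_cons_of_mem _ hx))

theorem nEl_append (u w : List ℕ) : nEl (u ++ w) = nEl u * nEl w := by simp [nEl]

theorem rev_alg {G : Type*} [Group G] {s n a b : G} (hs : s * s = 1) (ha : a = s * n) (hb : b = s) :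
    a⁻¹ = n⁻¹ * b := by
  rw [ha, hb, _root_.mul_inv_rev, inv_eq_of_mul_eq_one_right hs]

theorem nEl_cons (j : ℕ) (w : List ℕ) : nEl (j :: w) = T.nJ j * nEl w := by
  simp only [nEl, List.map_cons, List.prod_cons]

theorem nEl_single (j : ℕ) : nEl [j] = T.nJ j := by
  simp only [nEl, List.map_cons, List.map_nil, List.prod_cons, List.prod_nil, mul_one]

theorem nEl_reverse : ∀ {w : List ℕ}, (∀ j ∈ w, j < 2) → (nEl w)⁻¹ = nEl w.reverse
  | [], _ => inv_one
  | j :: w, h => by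
    rw [List.reverse_cons, nEl_append, ← nEl_reverse fun x hx => h x (List.mem_cons_of_mem _ hx)]
    exact rev_alg (nJ_mul_self (h j List.mem_cons_self)) (nEl_cons j w) (nEl_single j)

/-- conjugating by the first letter lands one step lower or in the rotated coset -/
theorem step_alg {G : Type*} [Group G] {s n u v : G} (hs : s * s = 1) :
    (u * s)⁻¹ * (u * (s * n) * v) * ((u * s)⁻¹)⁻¹ = (s * (v * u)⁻¹ * n⁻¹)⁻¹ := by
  have e : s⁻¹ = s := inv_eq_of_mul_eq_one_right hs
  conv_rhs => rw [show (s * (v * u)⁻¹ * n⁻¹)⁻¹ = n * (v * u) * s⁻¹ by group, e]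
  group

theorem inv_three {G : Type*} [Group G] (x y z : G) : (x * y * z)⁻¹ = z⁻¹ * y⁻¹ * x⁻¹ := by group

/-- conjugating by the first letter lands one step lower or in the rotated coset -/
theorem step {j : ℕ} {w : List ℕ} (hw : ∀ x ∈ j :: w, x < 2) {g : G₂} (hg : InCell (j :: w) g) :
    ∃ h ∈ T.fix, InCell (w ++ [j]) (h * g * h⁻¹) ∨ InCell w (h * g * h⁻¹) := by
  obtain ⟨u, hu, v, hv, rfl⟩ := hg
  have hj : j < 2 := hw j List.mem_cons_self
  have hj' : j < foldF42.num := hj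
  have hw' : ∀ x ∈ w, x < 2 := fun x hx => hw x (List.mem_cons_of_mem _ hx)
  have hwr : ∀ x ∈ w.reverse, x < 2 := fun x hx => hw' x (List.mem_reverse.1 hx)
  have hwj : ∀ x ∈ j :: w.reverse, x < 2 := fun x hx =>
    (List.mem_cons.1 hx).elim (fun e => e ▸ hj) (hwr x)
  have hb : (v * u)⁻¹ ∈ chevF4.borelSubgroup K2 ⊓ T.fix := by
    rw [borel_eq]; exact inv_mem (mul_mem hv hu)
  obtain ⟨x, hx, z, hz, e⟩ := Twist.fix_rule T (F42.split hi).tab hj' (nEl_fix hwr) hb
  rw [borel_eq] at hx hz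
  refine ⟨(u * T.nJ j)⁻¹, inv_mem (mul_mem (Subgroup.mem_inf.1 hu).2 (T.nJ_fix hj')), ?_⟩
  have hconj : (u * T.nJ j)⁻¹ * (u * nEl (j :: w) * v) * ((u * T.nJ j)⁻¹)⁻¹ =
      (T.nJ j * (v * u)⁻¹ * nEl w.reverse)⁻¹ := by
    rw [nEl_cons, ← nEl_reverse hw']
    have hs := nJ_mul_self hj
    revert hs
    generalize nEl w = n
    generalize T.nJ j = s
    intro hs
    exact @step_alg G₂ _ s n u v hs
  rw [hconj]
  rcases e with e | e
  · refine Or.inl ⟨z⁻¹, inv_mem hz, x⁻¹, inv_mem hx, ?_⟩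
    have e1 : (nEl (j :: w.reverse))⁻¹ = nEl (w ++ [j]) := by
      rw [nEl_reverse hwj, List.reverse_cons, List.reverse_reverse]
    rw [e, ← e1, nEl_cons]
    generalize nEl w.reverse = n
    generalize T.nJ j = s
    exact @inv_three G₂ _ x (s * n) z
  · refine Or.inr ⟨z⁻¹, inv_mem hz, x⁻¹, inv_mem hx, ?_⟩
    have e1 : (nEl w.reverse)⁻¹ = nEl w := by
      rw [nEl_reverse hwr, List.reverse_reverse]
    rw [e, ← e1]
    generalize nEl w.reverse = n
    exact @inv_three G₂ _ x n z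

attribute [local irreducible] nEl

theorem InCell.congr {w w' : List ℕ} (e : nEl w = nEl w') {g : G₂} (h : InCell w g) : InCell w' g := by
  obtain ⟨u, hu, v, hv, rfl⟩ := h
  exact ⟨u, hu, v, hv, by rw [e]⟩

/-- all elements of these cosets reduce -/
def Good (w : List ℕ) : Prop := ∀ g, InCell w g → Red g

theorem good_keep {w : List ℕ} (hw : Keep w) : Good w := by
  rintro g ⟨u, hu, v, hv, rfl⟩
  exact ⟨w, hw, u⁻¹, inv_mem hu.2, v * u, mul_mem hv hu, by group⟩

theorem good_step {j : ℕ} {w : List ℕ} (hw : ∀ x ∈ j :: w, x < 2) (h1 : Good (w ++ [j])) (h2 : Good w) :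
    Good (j :: w) := fun g hg => by
  obtain ⟨h, hh, hc⟩ := step hw hg
  obtain ⟨k, hk, h', hh', u, hu, e⟩ := hc.elim (h1 _) (h2 _)
  exact ⟨k, hk, h' * h, mul_mem hh' hh, u, hu, by rw [← e]; group⟩

theorem good_collapse {w : List ℕ} {j : ℕ} (hj : j < 2) (h : Good w) : Good (w ++ [j, j]) := fun g hg =>
  h g (hg.congr (by
    rw [nEl_append, nEl_cons, nEl_single, nJ_mul_self hj, mul_one]))

theorem red_of_good {w : List ℕ} (h : Good w) {g : G₂} (hg : InCell w g) : Red g := h g hg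

attribute [local irreducible] Good

theorem good_words : ∀ e ∈ ftabF42, Good e.word := by
  have k0 : Good [] := good_keep (.inl rfl)
  have k1 : Good [0] := good_keep (.inr (.inl rfl))
  have k2 : Good [1] := good_keep (.inr (.inr (.inl rfl)))
  have k10 : Good [1, 0] := good_keep (.inr (.inr (.inr (.inl rfl))))
  have k1010 : Good [1, 0, 1, 0] := good_keep (.inr (.inr (.inr (.inr (.inl rfl)))))
  have k6 : Good [1, 0, 1, 0, 1, 0] := good_keep (.inr (.inr (.inr (.inr (.inr (.inl rfl))))))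
  have k8 : Good [1, 0, 1, 0, 1, 0, 1, 0] := good_keep (.inr (.inr (.inr (.inr (.inr (.inr rfl))))))
  have l : ∀ {w : List ℕ}, (w.all fun x => decide (x < 2)) = true → ∀ x ∈ w, x < 2 := fun h x hx => by
    simpa using List.all_eq_true.1 h x hx
  have g01 : Good [0, 1] := good_step (l rfl) k10 k2
  have g010 : Good [0, 1, 0] := good_step (l rfl) (good_collapse (w := [1]) (by norm_num) k2) k10
  have g101 : Good [1, 0, 1] := good_step (l rfl) (good_collapse (w := [0]) (by norm_num) k1) g01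
  have g0101 : Good [0, 1, 0, 1] := good_step (l rfl) k1010 g101
  have g01010 : Good [0, 1, 0, 1, 0] := good_step (l rfl) (good_collapse (w := [1, 0, 1]) (by norm_num) g101) k1010
  have g10101 : Good [1, 0, 1, 0, 1] := good_step (l rfl) (good_collapse (w := [0, 1, 0]) (by norm_num) g010) g0101
  have g6 : Good [0, 1, 0, 1, 0, 1] := good_step (l rfl) k6 g10101
  have g7a : Good [0, 1, 0, 1, 0, 1, 0] :=
    good_step (l rfl) (good_collapse (w := [1, 0, 1, 0, 1]) (by norm_num) g10101) k6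
  have g7b : Good [1, 0, 1, 0, 1, 0, 1] :=
    good_step (l rfl) (good_collapse (w := [0, 1, 0, 1, 0]) (by norm_num) g01010) g6
  intro e he
  have hlist : e.word ∈ ([[], [0], [1], [1, 0], [1, 0, 1, 0], [1, 0, 1, 0, 1, 0], [1, 0, 1, 0, 1, 0, 1, 0],
      [0, 1], [0, 1, 0], [1, 0, 1], [0, 1, 0, 1], [0, 1, 0, 1, 0], [1, 0, 1, 0, 1], [0, 1, 0, 1, 0, 1],
      [0, 1, 0, 1, 0, 1, 0], [1, 0, 1, 0, 1, 0, 1]] : List (List ℕ)) := by
    have h : (ftabF42.all fun e => ([[], [0], [1], [1, 0], [1, 0, 1, 0], [1, 0, 1, 0, 1, 0],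
        [1, 0, 1, 0, 1, 0, 1, 0], [0, 1], [0, 1, 0], [1, 0, 1], [0, 1, 0, 1], [0, 1, 0, 1, 0], [1, 0, 1, 0, 1],
        [0, 1, 0, 1, 0, 1], [0, 1, 0, 1, 0, 1, 0], [1, 0, 1, 0, 1, 0, 1]] : List (List ℕ)).contains e.word) = true := by
      decide +kernel
    exact List.contains_iff_mem.1 (List.all_eq_true.1 h e he)
  generalize e.word = w at hlist
  fin_cases hlist <;> assumption

theorem nW_flat : ∀ (w : List ℕ), nW K2 stdF4.good (foldF42.flat w) = nEl w
  | [] => by simp only [Fold.flat, List.flatMap_nil, nW, List.map_nil, List.prod_nil, nEl]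
  | j :: w => by
    rw [nEl_cons, ← nW_flat w]
    simp only [Fold.flat, List.flatMap_cons, nW, List.map_append, List.prod_append, Twist.nJ]

theorem red_all {g : G₂} (hg : g ∈ T.fix) : Red g := by
  obtain ⟨u, hu, t, ht, e, he, v, hv, eq⟩ := T.fix_decomp (F42.split hi).tab hg
  have ht1 : t = 1 := by
    have := (Subgroup.mem_inf.1 ht).1
    rwa [diag_bot, Subgroup.mem_bot] at this
  refine red_of_good (good_words e he) ⟨u, hu, v, T.V_le_pos _ hv, ?_⟩
  rw [eq, ht1, mul_one, nW_flat]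

end CfsgLib.ThompsonF42.Tits
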