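import Cfsg.Agent.Lib.KnownB.ThompsonF42.Tits.Elems
import Cfsg.Agent.Lib.KnownB.ThompsonF42.Tits.Reduce
import Cfsg.Agent.Lib.KnownB.ThompsonF42.Tits.ChkMisc
import Cfsg.Agent.Lib.KnownB.ThompsonF42.Tits.Chk0
import Cfsg.Agent.Lib.KnownB.ThompsonF42.Tits.Chk1
import Cfsg.Agent.Lib.KnownB.ThompsonF42.Tits.Chk2
import Cfsg.Agent.Lib.KnownB.ThompsonF42.Tits.Chk3
import Cfsg.Agent.Lib.KnownB.ThompsonF42.Tits.Chk4
import Cfsg.Agent.Lib.KnownB.ThompsonF42.Tits.Chk5
import Cfsg.Agent.Lib.KnownB.ThompsonF42.Tits.Chk6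

/-!
An element of order five squares onto the Tits group.
-/

set_option autoImplicit false
set_option maxRecDepth 100000
set_option maxHeartbeats 600000

namespace CfsgLib.ThompsonF42.Tits

open Cfsg.Lie Matrix CfsgLib.Chev CfsgLib.Chev.F42 CfsgLib.Chev.F42.Two CfsgLib.Chev.Tits2
open scoped commutatorElement

local notation "G₂" => GL chevF4.Idx K2

theorem not_both {y : G₂} (hy : y ∈ C) : ¬ Cong y true := by
  intro h
  have ha : a ∈ C := by
    have := mul_mem (inv_mem hy) (by simpa using h.2 : y * a ∈ C)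
    rwa [inv_mul_cancel_left] at this
  refine Tits2.commutator_ne_top (eq_top_iff.2 fun g _ => ?_)
  obtain ⟨b, hb⟩ := F42Invol.all_cong g.2
  have hg : (g : G₂) ∈ C := by
    cases b with
    | false => simpa using hb.2
    | true =>
      have := mul_mem (by simpa using hb.2 : (g : G₂) * a ∈ C) (inv_mem ha)
      rwa [mul_inv_cancel_right] at this
  have hmap := Subgroup.map_subtype_commutator T.fix
  rw [show C = ⁅T.fix, T.fix⁆ from rfl, ← hmap] at hg
  obtain ⟨d, hd, e⟩ := hg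
  rwa [← (Subtype.ext e : d = g)]

theorem sel_factors : ∀ {F : List (List (List ℕ × Bool))} {L : List ℕ} {b : Bool}, Sel F L b →
    ∀ {O : List (List ℕ)}, all2 (fun o xs => all2 (fun p x => p.1 == fRootsB x) o xs) F O = true →
      ∃ xs : List ℕ, List.Forall₂ (fun x o => x ∈ o) xs O ∧ prodX L = (xs.map fun x => prodX (fRootsB x)).prod := by
  intro F L b h
  induction h with
  | nil =>
    intro O hO
    cases O with
    | nil => exact ⟨[], List.Forall₂.nil, rfl⟩
    | cons o O => simp [all2] at hO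
  | @cons o r x L b hx _ ih =>
    intro O hO
    cases O with
    | nil => simp [all2] at hO
    | cons o' O =>
      simp only [all2, Bool.and_eq_true] at hO
      obtain ⟨k, hk, e⟩ := all2_mem hO.1 x hx
      obtain ⟨xs, hxs, exs⟩ := ih hO.2
      refine ⟨k :: xs, List.Forall₂.cons hk hxs, ?_⟩
      rw [prodX_append, eq_of_beq e, exs, List.map_cons, List.prod_cons]

theorem pair_el {k : ℕ} (hk : k < 4) {x y : ℕ} (hx : x ∈ fOpt.getD (2 * k) [])
    (hy : y ∈ fOpt.getD (2 * k + 1) []) :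
    ∃ i < 8, fEl x * fEl y = uEl (8 * k + i) := by
  have h := pair_ok
  simp only [List.all_eq_true, List.any_eq_true, List.mem_range] at h
  obtain ⟨i, hi, e⟩ := h k hk x hx y hy
  exact ⟨i, hi, by rw [uEl, eq_of_beq e]⟩

theorem unip_pairs {u : G₂} (hu : u ∈ U0) :
    ∃ a < 8, ∃ b < 8, ∃ c < 8, ∃ d < 8, u = uEl a * (uEl (8 + b) * (uEl (16 + c) * uEl (24 + d))) := by
  obtain ⟨L, p, hS, rfl⟩ := Tits2.exists_sel hu
  obtain ⟨xs, hxs, e⟩ := sel_factors hS facs_ok
  rw [fOpt] at hxs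
  rcases xs with _ | ⟨x0, _ | ⟨x1, _ | ⟨x2, _ | ⟨x3, _ | ⟨x4, _ | ⟨x5, _ | ⟨x6, _ | ⟨x7, xs⟩⟩⟩⟩⟩⟩⟩⟩ <;>
    simp only [List.forall₂_cons, List.forall₂_nil_right_iff, List.forall₂_nil_left_iff, List.cons_ne_nil,
      reduceCtorEq, and_false, false_and] at hxs
  obtain ⟨h0, h1, h2, h3, h4, h5, h6, h7, rfl⟩ := hxs
  have le : ∀ (k : ℕ) (x : ℕ), x ∈ fOpt.getD k [] → x ≤ 16 := by
    intro k x hx
    have h := fOpt_ok
    simp only [Bool.and_eq_true, List.all_eq_true, Nat.ble_eq] at h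
    rcases Nat.lt_or_ge k fOpt.length with hl | hl
    · rw [List.getD_eq_getElem _ _ hl] at hx
      exact h.2 _ (List.getElem_mem _) _ hx
    · rw [List.getD_eq_default _ _ hl] at hx
      exact absurd hx List.not_mem_nil
  have er : ∀ (k : ℕ) (x : ℕ), x ∈ fOpt.getD k [] → prodX (fRootsB x) = fEl x := fun k x hx =>
    (fEl_roots (le k x hx)).symm
  obtain ⟨a, ha, ea⟩ := pair_el (show 0 < 4 by norm_num) (x := x0) (y := x1) h0 h1
  obtain ⟨b, hb, eb⟩ := pair_el (show 1 < 4 by norm_num) (x := x2) (y := x3) h2 h3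
  obtain ⟨c, hc, ec⟩ := pair_el (show 2 < 4 by norm_num) (x := x4) (y := x5) h4 h5
  obtain ⟨d, hd, ed⟩ := pair_el (show 3 < 4 by norm_num) (x := x6) (y := x7) h6 h7
  refine ⟨a, ha, b, hb, c, hc, d, hd, ?_⟩
  rw [e, ← show 8 * 0 + a = a by omega, ← show 8 * 1 + b = 8 + b from rfl, ← show 8 * 2 + c = 16 + c from rfl,
    ← show 8 * 3 + d = 24 + d from rfl, ← ea, ← eb, ← ec, ← ed]
  simp only [List.map_cons, List.map_nil, List.prod_cons, List.prod_nil, mul_one]
  rw [er 0 x0 h0, er 1 x1 h1, er 2 x2 h2, er 3 x3 h3, er 4 x4 h4, er 5 x5 h5, er 6 x6 h6, er 7 x7 h7]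
  simp only [mul_assoc]

theorem place_el {k : ℕ} (hk : k < 4) {i : ℕ} (hi : i < 8) :
    ∃ p ∈ place k, p = (uPar (8 * k + i), uT.getD (8 * k + i) 0) := by
  have h := place_ok
  simp only [List.all_eq_true, Bool.and_eq_true, List.mem_range] at h
  obtain ⟨hl, he⟩ := h k hk
  have hi' : i < (place k).length := by rw [eq_of_beq hl]; exact hi
  refine ⟨_, List.getElem_mem hi', ?_⟩
  rw [← List.getD_eq_getElem _ (false, 0), eq_of_beq (he i hi)]
  rfl

/-- the witnesses of one cell give the products -/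
theorem cell_prod {n : G₂} {N : ℕ} {W : List (List (List (List ℕ)))} (hn : Act n false (get N))
    (h : cellOK N W = true) {u : G₂} (hu : u ∈ U0) (hpar : ¬ Cong (n * u) true) : Prod2 (n * u) := by
  obtain ⟨a, ha, b, hb, c, hc, d, hd, rfl⟩ := unip_pairs hu
  obtain ⟨pa, hpa, rfl⟩ := place_el (show 0 < 4 by norm_num) ha
  obtain ⟨pb, hpb, rfl⟩ := place_el (show 1 < 4 by norm_num) hb
  obtain ⟨pc, hpc, rfl⟩ := place_el (show 2 < 4 by norm_num) hc
  obtain ⟨pd, hpd, rfl⟩ := place_el (show 3 < 4 by norm_num) hd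
  unfold cellOK at h
  obtain ⟨W1, -, h1⟩ := all2_mem h _ hpa
  obtain ⟨W2, -, h2⟩ := all2_mem h1 _ hpb
  obtain ⟨W3, -, h3⟩ := all2_mem h2 _ hpc
  obtain ⟨k, -, h4⟩ := all2_mem h3 _ hpd
  have A := act_uEl (show a < 32 by omega)
  have B := act_uEl (show 8 + b < 32 by omega)
  have Cc := act_uEl (show 16 + c < 32 by omega)
  have D := act_uEl (show 24 + d < 32 by omega)
  simp only [Nat.mul_zero, Nat.zero_add, show 8 * 1 + b = 8 + b from rfl, show 8 * 2 + c = 16 + c from rfl,
    show 8 * 3 + d = 24 + d from rfl] at h4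
  rcases Bool.or_eq_true_iff.1 h4 with hp | hw
  · refine absurd ?_ hpar
    have := (hn.mul (A.mul (B.mul (Cc.mul D)))).1
    rwa [hp, Bool.false_xor] at this
  · exact witOK_spec hn A B Cc D hw

theorem nJ_word {j : ℕ} (hj : j < 2) : elw (jW.getD j []) = T.nJ j := by
  have h := word_ok
  simp only [Bool.and_eq_true] at h
  rw [elw, prodX_of_wEq (all2_get [] [] h.1.2 j (show j < jW.length from hj))]
  interval_cases j <;>
    simp [Twist.nJ, Fold.w, foldF42, jR, nW, nS, nG, prodX,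
      show chevF4.simple 0 = 33 by decide +kernel, show chevF4.simple 1 = 27 by decide +kernel,
      show chevF4.simple 2 = 25 by decide +kernel, show chevF4.simple 3 = 24 by decide +kernel,
      show chevF4.neg 33 = 14 by decide +kernel, show chevF4.neg 27 = 20 by decide +kernel,
      show chevF4.neg 25 = 22 by decide +kernel, show chevF4.neg 24 = 23 by decide +kernel,
      CharTwo.neg_eq, mul_assoc]

theorem act_cell {k : ℕ} (hk : k < 7) : Act (nEl (cellW.getD k [])) false (get (nT.getD k 0)) := by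
  have h := all2_get [] 0 nT_ok k (show k < cellW.length from hk)
  have hp := cell_par
  simp only [List.all_eq_true, Bool.not_eq_true'] at hp
  have hmem : cellW.getD k [] ∈ cellW := by
    rw [List.getD_eq_getElem _ _ (show k < cellW.length from hk)]; exact List.getElem_mem _
  have hw : ∀ j ∈ cellW.getD k [], j < 2 := by interval_cases k <;> decide
  have hlt : ∀ l ∈ (cellW.getD k []).flatMap fun j => jW.getD j [], l < 8 := by
    intro l hl
    obtain ⟨j, hj, hlj⟩ := List.mem_flatMap.1 hl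
    have hjw := jW_ok
    simp only [List.all_eq_true, Nat.blt_eq] at hjw
    rw [List.getD_eq_getElem _ _ (show j < jW.length from hw j hj)] at hlj
    exact hjw _ (List.getElem_mem _) l hlj
  have e : ∀ w : List ℕ, (∀ j ∈ w, j < 2) → elw (w.flatMap fun j => jW.getD j []) = nEl w := by
    intro w
    induction w with
    | nil => intro _; rfl
    | cons j w ih =>
      intro hw
      rw [List.flatMap_cons, elw_append, ih fun x hx => hw x (List.mem_cons_of_mem _ hx),
        nJ_word (hw j List.mem_cons_self), nEl_cons]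
  have := act_word_tab hlt h
  rwa [e _ hw, hp _ hmem] at this

/-- every element of the commutator subgroup is a product of two conjugates -/
theorem prod_all {g : G₂} (hg : g ∈ C) : Prod2 g := by
  have hgf : g ∈ T.fix := Subgroup.commutator_le_self _ hg
  obtain ⟨w, hw, h, hh, u, hu, e⟩ := red_all hgf
  suffices Prod2 (nEl w * u) by
    rw [← e] at this
    have h2 := this.conj (inv_mem hh)
    rwa [show h⁻¹ * (h * g * h⁻¹) * h⁻¹⁻¹ = g by group] at h2
  have hpar : ¬ Cong (nEl w * u) true := by rw [← e]; exact not_both (conj_mem hh hg)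
  rcases hw with rfl | rfl | rfl | rfl | rfl | rfl | rfl
  · exact cell_prod (act_cell (k := 0) (by norm_num)) cell0_ok hu hpar
  · exact cell_prod (act_cell (k := 1) (by norm_num)) cell1_ok hu hpar
  · exact cell_prod (act_cell (k := 2) (by norm_num)) cell2_ok hu hpar
  · exact cell_prod (act_cell (k := 3) (by norm_num)) cell3_ok hu hpar
  · exact cell_prod (act_cell (k := 4) (by norm_num)) cell4_ok hu hpar
  · exact cell_prod (act_cell (k := 5) (by norm_num)) cell5_ok hu hpar
  · exact cell_prod (act_cell (k := 6) (by norm_num)) cell6_ok hu hpar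

/-- conjugators may be taken inside the commutator subgroup -/
theorem conj_adjust {c : G₂} (hc : c ∈ T.fix) : ∃ d ∈ C, d * xE * d⁻¹ = c * xE * c⁻¹ := by
  obtain ⟨b, hb⟩ := F42Invol.all_cong hc
  cases b with
  | false => exact ⟨c, by simpa using hb.2, rfl⟩
  | true =>
    refine ⟨c * elw cW, by simpa using (hb.mul syl_facts.2.2.2.2).2, ?_⟩
    rw [show c * elw cW * xE * (c * elw cW)⁻¹ = c * (elw cW * xE * (elw cW)⁻¹) * c⁻¹ by group,
      syl_facts.2.2.2.1, mul_inv_cancel_right]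

/-- covering for the Tits group -/
theorem cover_tits : ∃ x : TitsGroup, Odd (orderOf x) ∧
    ∀ g : TitsGroup, g ≠ 1 → ∃ u v : TitsGroup, g = (u * x * u⁻¹) * (v * x * v⁻¹) := by
  have hG : twistedF4 K2 1 = T.fix := F42.twisted_eq_fix F42.Two.hσ F42.Two.hi
  have mem : ∀ {y : G₂}, y ∈ C → ∃ d : TitsGroup, ((d : ↥(twistedF4 K2 1)) : G₂) = y := by
    intro y hy
    have hmap := Subgroup.map_subtype_commutator (twistedF4 K2 1)
    have : y ∈ ⁅twistedF4 K2 1, twistedF4 K2 1⁆ := by rwa [hG]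
    rw [← hmap] at this
    obtain ⟨d, hd, hde⟩ := this
    exact ⟨⟨d, hd⟩, hde⟩
  obtain ⟨x, hx⟩ := mem (mem_C_of cong_x)
  refine ⟨x, ?_, fun g _ => ?_⟩
  · have h5 : orderOf ((x : ↥(twistedF4 K2 1)) : G₂) = 5 := by
      haveI : Fact (Nat.Prime 5) := ⟨by norm_num⟩
      rw [hx]
      exact orderOf_eq_prime syl_facts.1 xE_ne
    rw [Subgroup.orderOf_coe, Subgroup.orderOf_coe] at h5
    rw [h5]
    decide
  · have hgC : ((g : ↥(twistedF4 K2 1)) : G₂) ∈ C := by
      have hmap := Subgroup.map_subtype_commutator (twistedF4 K2 1)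
      show _ ∈ ⁅T.fix, T.fix⁆
      rw [← hG, ← hmap]
      exact ⟨_, g.2, rfl⟩
    obtain ⟨c, hc, d, hd, e⟩ := prod_all hgC
    obtain ⟨c', hc', ec⟩ := conj_adjust hc
    obtain ⟨d', hd', ed⟩ := conj_adjust hd
    obtain ⟨u, hu⟩ := mem hc'
    obtain ⟨v, hv⟩ := mem hd'
    refine ⟨u, v, Subtype.ext (Subtype.ext ?_)⟩
    simp only [Subgroup.coe_mul, Subgroup.coe_inv, hu, hv, hx]
    rw [ec, ed]
    exact e

end CfsgLib.ThompsonF42.Tits
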