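import Cfsg.Agent.Lib.KnownB.ThompsonF42.Tits.Act
import Cfsg.Agent.Lib.KnownB.ThompsonF42.Tits.ChkSylow

/-!
The elements of order five form one class.
-/

set_option autoImplicit false
set_option maxRecDepth 100000
set_option maxHeartbeats 600000

namespace CfsgLib.ThompsonF42.Tits

open Cfsg.Lie Matrix CfsgLib.Chev CfsgLib.Chev.F42 CfsgLib.Chev.F42.Two CfsgLib.Chev.Tits2

local notation "G₂" => GL chevF4.Idx K2

/-- the element of order five -/
noncomputable def xE : G₂ := elw xW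

theorem xW_lt : ∀ l ∈ xW, l < 8 := by decide

theorem act_x : Act xE false (evalT (tabsOf xW)) := act_word xW_lt

theorem cong_x : Cong xE false := act_x.1

theorem eqB_spec {u v : List ℕ} (h : eqB u v = true) :
    (∀ l ∈ u, l < 8) ∧ (∀ l ∈ v, l < 8) ∧ elw u = elw v := by
  simp only [eqB, Bool.and_eq_true, List.all_eq_true, Nat.blt_eq] at h
  exact ⟨h.1.1, h.1.2, eq_of_bases (act_word h.1.1) (act_word h.1.2) fun b hb => Nat.eq_of_beq_eq_true (h.2 b hb)⟩

theorem elw_rep (w : List ℕ) : ∀ k, elw (List.replicate k w).flatten = elw w ^ k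
  | 0 => rfl
  | k + 1 => by rw [List.replicate_succ, List.flatten_cons, elw_append, pow_succ', elw_rep w k]

theorem elw_pW (i j : ℕ) : elw (pW i j) = xE ^ i * elw x2W ^ j := by
  rw [pW, elw_append, elw_rep, elw_rep, xE]

theorem x2W_lt : ∀ l ∈ x2W, l < 8 := by decide

theorem pW_lt (i j : ℕ) : ∀ l ∈ pW i j, l < 8 := fun l hl => by
  rcases List.mem_append.1 hl with h | h <;> obtain ⟨w, hw, hlw⟩ := List.mem_flatten.1 h <;>
    obtain rfl := (List.mem_replicate.1 hw).2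
  · exact xW_lt l hlw
  · exact x2W_lt l hlw

theorem syl_facts : xE ^ 5 = 1 ∧ elw x2W ^ 5 = 1 ∧ Commute xE (elw x2W) ∧
    elw cW * xE = xE * elw cW ∧ Cong (elw cW) true := by
  have h := syl_ok
  simp only [Bool.and_eq_true] at h
  obtain ⟨⟨⟨⟨⟨h1, -⟩, h2⟩, h3⟩, h4⟩, h5⟩ := h
  refine ⟨?_, ?_, ?_, ?_, ?_⟩
  · rw [xE, ← elw_rep, (eqB_spec h1).2.2, elw_nil]
  · rw [← elw_rep, (eqB_spec h2).2.2, elw_nil]
  · show _ * _ = _ * _
    rw [xE, ← elw_append, ← elw_append, (eqB_spec h3).2.2]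
  · rw [xE, ← elw_append, ← elw_append, (eqB_spec h4).2.2]
  · have := (act_word (eqB_spec h4).1).1
    have hc : parW (cW ++ xW) = true := by decide +kernel
    have := (act_word (w := cW) fun l hl => (eqB_spec h4).1 l (List.mem_append_left _ hl)).1
    rwa [h5] at this

theorem xE_ne : xE ≠ 1 := by
  intro e
  have h : eqB xW [] = false := by
    have h := syl_ok
    simp only [Bool.and_eq_true, Bool.not_eq_true'] at h
    exact h.1.1.1.1.2
  have h2 : eqB xW [] = true := by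
    simp only [eqB, Bool.and_eq_true, List.all_eq_true, Nat.blt_eq]
    refine ⟨⟨xW_lt, by simp⟩, fun b hb => ?_⟩
    rw [(eq_one_iff act_x).1 e b hb]
    exact Nat.beq_refl _
  rw [h] at h2
  exact Bool.false_ne_true h2

/-- the products of powers of two commuting elements of exponent five -/
def pairSub {G : Type*} [Group G] (x y : G) (hc : Commute x y) (hx : x ^ 5 = 1) (hy : y ^ 5 = 1) :
    Subgroup G where
  carrier := {z | ∃ i j : ℕ, z = x ^ i * y ^ j}
  one_mem' := ⟨0, 0, by simp⟩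
  mul_mem' := by
    rintro _ _ ⟨i, j, rfl⟩ ⟨k, l, rfl⟩
    exact ⟨i + k, j + l, by rw [pow_add, pow_add]; exact (hc.symm.pow_pow j k).mul_mul_mul_comm _ _⟩
  inv_mem' := by
    rintro _ ⟨i, j, rfl⟩
    refine ⟨4 * i, 4 * j, inv_eq_of_mul_eq_one_right ?_⟩
    rw [(hc.symm.pow_pow j (4 * i)).mul_mul_mul_comm _ _, ← pow_add, ← pow_add,
      show i + 4 * i = 5 * i by omega, show j + 4 * j = 5 * j by omega,
      pow_mul, pow_mul, hx, hy, one_pow, one_pow, one_mul]

theorem pow_pair_mod {G : Type*} [Group G] {x y : G} (hx : x ^ 5 = 1) (hy : y ^ 5 = 1) (i j : ℕ) :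
    x ^ i * y ^ j = x ^ (i % 5) * y ^ (j % 5) := by
  rw [← pow_eq_pow_mod i hx, ← pow_eq_pow_mod j hy]

/-- the Sylow subgroup -/
noncomputable def syl : Subgroup G₂ :=
  pairSub xE (elw x2W) syl_facts.2.2.1 syl_facts.1 syl_facts.2.1

theorem syl_mem_iff {z : G₂} : z ∈ syl ↔ ∃ p ∈ ij, z = elw (pW p.1 p.2) := by
  constructor
  · rintro ⟨i, j, rfl⟩
    refine ⟨(i % 5, j % 5), ?_, ?_⟩
    · simp only [ij, List.mem_flatMap, List.mem_map, List.mem_range]
      exact ⟨i % 5, Nat.mod_lt _ (by norm_num), j % 5, Nat.mod_lt _ (by norm_num), rfl⟩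
    · rw [elw_pW]
      exact @pow_pair_mod G₂ _ _ _ syl_facts.1 syl_facts.2.1 i j
  · rintro ⟨p, -, rfl⟩
    exact ⟨p.1, p.2, elw_pW _ _⟩

theorem syl_le : syl ≤ T.fix := fun z hz => by
  obtain ⟨p, -, rfl⟩ := syl_mem_iff.1 hz
  exact (act_word (pW_lt _ _)).mem

theorem card_syl : Nat.card ↥syl = 25 := by
  classical
  have hinj : ∀ p ∈ ij, ∀ q ∈ ij, elw (pW p.1 p.2) = elw (pW q.1 q.2) → p = q := by
    intro p hp q hq e
    refine List.inj_on_of_nodup_map syl_distinct hp hq (List.map_congr_left fun b hb => ?_)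
    have hb' : b < nP := by
      obtain ⟨k, hk, rfl⟩ := List.mem_iff_getElem.1 hb
      rw [← List.getD_eq_getElem _ 0]
      exact bases_lt k
    have A := (act_word (pW_lt p.1 p.2)).2 b hb'
    have B := (act_word (pW_lt q.1 q.2)).2 b hb'
    rw [e, B.2] at A
    exact (vec_inj B.1 A.1 A.2).symm
  have e : ((ij.toFinset.image fun p => elw (pW p.1 p.2) : Finset G₂) : Set G₂) = (syl : Set G₂) := by
    ext z
    rw [Finset.coe_image, List.coe_toFinset, SetLike.mem_coe, syl_mem_iff]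
    exact ⟨fun ⟨p, hp, e⟩ => ⟨p, hp, e.symm⟩, fun ⟨p, hp, e⟩ => ⟨p, hp, e.symm⟩⟩
  have hc : (ij.toFinset.image fun p => elw (pW p.1 p.2)).card = 25 := by
    rw [Finset.card_image_of_injOn (by simpa [Set.InjOn] using fun a b ha c d hc e => Prod.ext_iff.1 (hinj (a, b) ha (c, d) hc e))]
    decide +kernel
  rw [← SetLike.coe_sort_coe, ← e, Nat.card_coe_set_eq, Set.ncard_coe_finset, hc]

/-- every element of order five is conjugate to the chosen one -/
theorem conj_x {z : G₂} (hz : z ∈ T.fix) (h5 : z ^ 5 = 1) (h1 : z ≠ 1) :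
    ∃ c ∈ T.fix, z = c * xE * c⁻¹ := by
  haveI : Finite G₂ := finite_GL
  haveI : Fact (Nat.Prime 5) := ⟨by norm_num⟩
  set P := syl.subgroupOf T.fix
  have hP : Nat.card ↥P = 5 ^ 2 := by
    rw [Nat.card_congr (Subgroup.subgroupOfEquivOfLe syl_le).toEquiv, card_syl]; norm_num
  have hPp : IsPGroup 5 ↥P := IsPGroup.of_card hP
  have hidx : ¬ 5 ∣ P.index := by
    have := Subgroup.card_mul_index P
    rw [hP, Tits2.card_fix] at this
    omega
  set S : Sylow 5 ↥T.fix := hPp.toSylow hidx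
  have hz5 : IsPGroup 5 ↥(Subgroup.zpowers (⟨z, hz⟩ : ↥T.fix)) := by
    rintro ⟨y, hy⟩
    obtain ⟨n, rfl⟩ := Subgroup.mem_zpowers_iff.1 hy
    refine ⟨1, Subtype.ext (Subtype.ext ?_)⟩
    push_cast
    rw [← zpow_natCast, ← _root_.zpow_mul, mul_comm, _root_.zpow_mul, zpow_natCast, h5, _root_.one_zpow]
  obtain ⟨Q, hQ⟩ := hz5.exists_le_sylow
  obtain ⟨d, hd⟩ := MulAction.exists_smul_eq ↥T.fix S Q
  have hmem := hQ (Subgroup.mem_zpowers _)
  rw [← hd] at hmem
  rw [Sylow.coe_subgroup_smul, Subgroup.mem_pointwise_smul_iff_inv_smul_mem] at hmem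
  have hmem2 : (d : G₂)⁻¹ * z * d ∈ syl := by
    have := Subgroup.mem_subgroupOf.1 (show _ ∈ P from hmem)
    simpa [MulAut.smul_def] using this
  obtain ⟨p, hp, e⟩ := syl_mem_iff.1 hmem2
  obtain ⟨h, -, hh⟩ := all2_mem syl_conj (p, pW p.1 p.2) (List.mem_map.2 ⟨p, hp, rfl⟩)
  rcases Bool.or_eq_true_iff.1 hh with h0 | hc
  · refine absurd ?_ h1
    have : (d : G₂)⁻¹ * z * d = 1 := by rw [e, (eqB_spec h0).2.2, elw_nil]
    calc z = (d : G₂) * ((d : G₂)⁻¹ * z * d) * (d : G₂)⁻¹ := by group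
      _ = 1 := by rw [this, mul_one, mul_inv_cancel]
  · obtain ⟨hl, -, hcj⟩ := eqB_spec hc
    rw [elw_append, elw_append] at hcj
    refine ⟨d * elw h, mul_mem d.2 (act_word fun l hl' => hl l (List.mem_append_left _ hl')).mem, ?_⟩
    rw [show (d : G₂) * elw h * xE * ((d : G₂) * elw h)⁻¹ = d * (elw h * xE * (elw h)⁻¹) * (d : G₂)⁻¹ by group,
      xE, hcj, mul_inv_cancel_right, ← e]
    group

end CfsgLib.ThompsonF42.Tits
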